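import Mathlib
import Cfsg.Agent.Helper3.SUTransport
import Cfsg.Agent.SU3G.H1_Trace

/-!
# S2282 swarm, piece GEN-n (helper9): the opposition-graph lemma

Abstract setting: `st : (Fin n → F) → (Fin n → F)` is the conjugate-dual map of a nondegenerate Hermitian form
`f x y = x ⬝ᵥ st y` over the field `F` with `q²` elements.  For an isotropic vector `z`, the elements
`E(z,v,c) : x ↦ x + f(x,z) v − f(x,v) z + c f(x,z) z`  (`f(v,z) = 0`, `c + c^q + f(v,v) = 0`) form the unipotent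
radical `Q_z` of the stabiliser of `⟨z⟩`.  If a subgroup `H` of the isometry group contains `Q_w` for one isotropic `w`
and an element `k` with `f(k w, w) ≠ 0`, then it contains `Q_z` for every isotropic `z` (`h9_opp`).
For the antidiagonal form of `Helper3/SUTransport` this gives `H = SUJ n F q` (`h9_genN`).
-/

set_option autoImplicit false

namespace Cfsg.Agent.SUNG

open Matrix Cfsg

variable {F : Type*} [Field F] {n : ℕ}

/-- `st` is the conjugate-dual map of a nondegenerate Hermitian form `f x y = x ⬝ᵥ st y` (`ȳ = y ^ q`). -/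
structure h9_IsHerm (q : ℕ) (st : (Fin n → F) → (Fin n → F)) : Prop where
  add : ∀ x y, st (x + y) = st x + st y
  smul : ∀ (a : F) (x : Fin n → F), st (a • x) = a ^ q • st x
  herm : ∀ x y, (x ⬝ᵥ st y) ^ q = y ⬝ᵥ st x
  nondeg : ∀ y, y ≠ 0 → ∃ x, x ⬝ᵥ st y ≠ 0

/-- the form -/
def h9_f (st : (Fin n → F) → (Fin n → F)) (x y : Fin n → F) : F := x ⬝ᵥ st y

/-- the Eichler/Siegel element `E(z,v,c)` -/
def h9_E (st : (Fin n → F) → (Fin n → F)) (z v : Fin n → F) (c : F) : Matrix (Fin n) (Fin n) F :=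
  1 + vecMulVec v (st z) - vecMulVec z (st v) + c • vecMulVec z (st z)

/-- the isometry group inside `SL_n` -/
def h9_G (st : (Fin n → F) → (Fin n → F)) : Subgroup (SpecialLinearGroup (Fin n) F) :=
  preserving (slToMat n F) (h9_f st)

theorem h9_mem_G (st : (Fin n → F) → (Fin n → F)) (M : SpecialLinearGroup (Fin n) F) :
    M ∈ h9_G st ↔ ∀ x y : Fin n → F, h9_f st (M.1 *ᵥ x) (M.1 *ᵥ y) = h9_f st x y := Iff.rfl

section form

variable {q : ℕ} {st : (Fin n → F) → (Fin n → F)}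

theorem h9_f_add_left (x x' y : Fin n → F) : h9_f st (x + x') y = h9_f st x y + h9_f st x' y := by
  unfold h9_f; rw [add_dotProduct]

theorem h9_f_sub_left (x x' y : Fin n → F) : h9_f st (x - x') y = h9_f st x y - h9_f st x' y := by
  unfold h9_f; rw [sub_dotProduct]

theorem h9_f_smul_left (a : F) (x y : Fin n → F) : h9_f st (a • x) y = a * h9_f st x y := by
  unfold h9_f; rw [smul_dotProduct, smul_eq_mul]

theorem h9_f_zero_left (y : Fin n → F) : h9_f st 0 y = 0 := by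
  unfold h9_f; rw [zero_dotProduct]

theorem h9_st_zero (hst : h9_IsHerm q st) : st 0 = 0 := by
  have h := hst.add 0 0
  rw [add_zero] at h
  exact left_eq_add.mp h

theorem h9_st_neg (hst : h9_IsHerm q st) (x : Fin n → F) : st (-x) = -st x := by
  have h := hst.add x (-x)
  rw [add_neg_cancel, h9_st_zero hst] at h
  exact (neg_eq_of_add_eq_zero_right h.symm).symm

theorem h9_st_sub (hst : h9_IsHerm q st) (x y : Fin n → F) : st (x - y) = st x - st y := by
  rw [sub_eq_add_neg, hst.add, h9_st_neg hst, ← sub_eq_add_neg]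

theorem h9_f_add_right (hst : h9_IsHerm q st) (x y y' : Fin n → F) :
    h9_f st x (y + y') = h9_f st x y + h9_f st x y' := by
  unfold h9_f; rw [hst.add, dotProduct_add]

theorem h9_f_sub_right (hst : h9_IsHerm q st) (x y y' : Fin n → F) :
    h9_f st x (y - y') = h9_f st x y - h9_f st x y' := by
  unfold h9_f; rw [h9_st_sub hst, dotProduct_sub]

theorem h9_f_smul_right (hst : h9_IsHerm q st) (a : F) (x y : Fin n → F) :
    h9_f st x (a • y) = a ^ q * h9_f st x y := by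
  unfold h9_f; rw [hst.smul, dotProduct_smul, smul_eq_mul]

theorem h9_f_zero_right (hst : h9_IsHerm q st) (x : Fin n → F) : h9_f st x 0 = 0 := by
  unfold h9_f; rw [h9_st_zero hst, dotProduct_zero]

theorem h9_f_conj (hst : h9_IsHerm q st) (x y : Fin n → F) : (h9_f st x y) ^ q = h9_f st y x :=
  hst.herm x y

theorem h9_E_mulVec (z v : Fin n → F) (c : F) (x : Fin n → F) :
    h9_E st z v c *ᵥ x = x + h9_f st x z • v - h9_f st x v • z + (c * h9_f st x z) • z := by
  unfold h9_E h9_f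
  rw [add_mulVec, sub_mulVec, add_mulVec, one_mulVec, smul_mulVec, vecMulVec_mulVec, vecMulVec_mulVec,
    vecMulVec_mulVec, dotProduct_comm (st z) x, dotProduct_comm (st v) x]
  simp only [op_smul_eq_smul, smul_smul]

end form

section elements

variable [Fintype F] {q : ℕ} {st : (Fin n → F) → (Fin n → F)}

/-- `E(z,v,c)` is an isometry when `z` is isotropic, `v ⊥ z` and `c + c̄ + f(v,v) = 0`. -/
theorem h9_E_isom (hF : Fintype.card F = q ^ 2) (hst : h9_IsHerm q st) (z v : Fin n → F) (c : F)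
    (hz : h9_f st z z = 0) (hvz : h9_f st v z = 0) (hc : c + c ^ q + h9_f st v v = 0) (x y : Fin n → F) :
    h9_f st (h9_E st z v c *ᵥ x) (h9_E st z v c *ᵥ y) = h9_f st x y := by
  have hzv : h9_f st z v = 0 := by
    rw [← h9_f_conj hst v z, hvz, zero_pow]
    have := Cfsg.Agent.Helper7.Herm.one_le_q hF
    omega
  have hvy : h9_f st v y = (h9_f st y v) ^ q := (h9_f_conj hst y v).symm
  have hzy : h9_f st z y = (h9_f st y z) ^ q := (h9_f_conj hst y z).symm
  rw [h9_E_mulVec, h9_E_mulVec]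
  simp only [h9_f_add_left, h9_f_sub_left, h9_f_smul_left, h9_f_add_right hst, h9_f_sub_right hst,
    h9_f_smul_right hst, hz, hvz, hzv, hvy, hzy, mul_pow]
  linear_combination (h9_f st x z * (h9_f st y z) ^ q) * hc

theorem h9_det_one_add_vecMulVec (u w : Fin n → F) : (1 + vecMulVec u w).det = 1 + w ⬝ᵥ u := by
  rw [vecMulVec_eq Unit, det_one_add_replicateCol_mul_replicateRow]

/-- `E(z,v,c)` has determinant one. -/
theorem h9_E_det (hF : Fintype.card F = q ^ 2) (hst : h9_IsHerm q st) (z v : Fin n → F) (c : F)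
    (hz : h9_f st z z = 0) (hvz : h9_f st v z = 0) : (h9_E st z v c).det = 1 := by
  have hzv : h9_f st z v = 0 := by
    rw [← h9_f_conj hst v z, hvz, zero_pow]
    have := Cfsg.Agent.Helper7.Herm.one_le_q hF
    omega
  have hfac : h9_E st z v c =
      (1 + vecMulVec z (-st v + (c + h9_f st v v) • st z)) * (1 + vecMulVec v (st z)) := by
    unfold h9_E
    rw [Matrix.add_mul, Matrix.one_mul, Matrix.mul_add, Matrix.mul_one, vecMulVec_mul_vecMulVec]
    have e1 : (-st v + (c + h9_f st v v) • st z) ⬝ᵥ v = -h9_f st v v := by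
      rw [add_dotProduct, neg_dotProduct, smul_dotProduct, dotProduct_comm (st v) v,
        dotProduct_comm (st z) v]
      change -h9_f st v v + (c + h9_f st v v) • h9_f st v z = _
      rw [hvz, smul_zero, add_zero]
    rw [e1]
    simp only [vecMulVec_add, vecMulVec_neg, vecMulVec_smul]
    module
  rw [hfac, det_mul, h9_det_one_add_vecMulVec, h9_det_one_add_vecMulVec]
  have e2 : (-st v + (c + h9_f st v v) • st z) ⬝ᵥ z = 0 := by
    rw [add_dotProduct, neg_dotProduct, smul_dotProduct, dotProduct_comm (st v) z,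
      dotProduct_comm (st z) z]
    change -h9_f st z v + (c + h9_f st v v) • h9_f st z z = _
    rw [hzv, hz, smul_zero, neg_zero, add_zero]
  have e3 : st z ⬝ᵥ v = 0 := by
    rw [dotProduct_comm]; exact hvz
  rw [e2, e3, add_zero, mul_one]

end elements

section conj

variable {q : ℕ} {st : (Fin n → F) → (Fin n → F)}

theorem h9_coe_mul_inv (k : SpecialLinearGroup (Fin n) F) :
    k.1 * (k⁻¹ : SpecialLinearGroup (Fin n) F).1 = 1 := by
  rw [← Matrix.SpecialLinearGroup.coe_mul, mul_inv_cancel]; rfl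

theorem h9_coe_inv_mul (k : SpecialLinearGroup (Fin n) F) :
    (k⁻¹ : SpecialLinearGroup (Fin n) F).1 * k.1 = 1 := by
  rw [← Matrix.SpecialLinearGroup.coe_mul, inv_mul_cancel]; rfl

/-- the isometry condition read on the dual vectors -/
theorem h9_st_vecMul (k : SpecialLinearGroup (Fin n) F) (hk : k ∈ h9_G st) (z : Fin n → F) :
    st (k.1 *ᵥ z) ᵥ* k.1 = st z := by
  apply dotProduct_eq
  intro x
  rw [← dotProduct_mulVec, dotProduct_comm, dotProduct_comm (st z) x]
  exact (h9_mem_G st k).1 hk x z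

theorem h9_st_vecMul_inv (k : SpecialLinearGroup (Fin n) F) (hk : k ∈ h9_G st) (z : Fin n → F) :
    st z ᵥ* (k⁻¹ : SpecialLinearGroup (Fin n) F).1 = st (k.1 *ᵥ z) := by
  rw [← h9_st_vecMul k hk z, vecMul_vecMul, h9_coe_mul_inv, vecMul_one]

/-- conjugating `E(z,v,c)` by an isometry -/
theorem h9_E_conj (k : SpecialLinearGroup (Fin n) F) (hk : k ∈ h9_G st) (z v : Fin n → F) (c : F) :
    k.1 * h9_E st z v c * (k⁻¹ : SpecialLinearGroup (Fin n) F).1 = h9_E st (k.1 *ᵥ z) (k.1 *ᵥ v) c := by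
  unfold h9_E
  rw [Matrix.mul_add, Matrix.mul_sub, Matrix.mul_add, Matrix.add_mul, Matrix.sub_mul, Matrix.add_mul,
    Matrix.mul_one, h9_coe_mul_inv, Matrix.mul_smul, Matrix.smul_mul, mul_vecMulVec, mul_vecMulVec,
    mul_vecMulVec, vecMulVec_mul, vecMulVec_mul, vecMulVec_mul, h9_st_vecMul_inv k hk, h9_st_vecMul_inv k hk]

end conj

section opp

variable [Fintype F] {q : ℕ} {st : (Fin n → F) → (Fin n → F)}

/-- the element `E(z,v,c)` of `SL_n` -/
def h9_Esl (hF : Fintype.card F = q ^ 2) (hst : h9_IsHerm q st) (z v : Fin n → F) (c : F)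
    (hz : h9_f st z z = 0) (hvz : h9_f st v z = 0) : SpecialLinearGroup (Fin n) F :=
  ⟨h9_E st z v c, h9_E_det hF hst z v c hz hvz⟩

theorem h9_Esl_mem (hF : Fintype.card F = q ^ 2) (hst : h9_IsHerm q st) (z v : Fin n → F) (c : F)
    (hz : h9_f st z z = 0) (hvz : h9_f st v z = 0) (hc : c + c ^ q + h9_f st v v = 0) :
    h9_Esl hF hst z v c hz hvz ∈ h9_G st :=
  fun x y => h9_E_isom hF hst z v c hz hvz hc x y

/-- `Q_z ≤ H`: every element `E(z,v,c)` of the isometry group lies in `H`. -/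
def h9_Qmem (q : ℕ) (st : (Fin n → F) → (Fin n → F)) (H : Subgroup (SpecialLinearGroup (Fin n) F))
    (z : Fin n → F) : Prop :=
  ∀ M : SpecialLinearGroup (Fin n) F, M ∈ h9_G st →
    (∃ (v : Fin n → F) (c : F), h9_f st v z = 0 ∧ c + c ^ q + h9_f st v v = 0 ∧
      (M : Matrix (Fin n) (Fin n) F) = h9_E st z v c) → M ∈ H

theorem h9_E_smul (hF : Fintype.card F = q ^ 2) (hst : h9_IsHerm q st) (a : F) (z v : Fin n → F) (c : F) :
    h9_E st (a • z) v c = h9_E st z (a ^ q • v) (c * a * a ^ q) := by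
  unfold h9_E
  rw [hst.smul a z, hst.smul (a ^ q) v, Cfsg.Agent.Helper7.Herm.pow_q_pow_q hF]
  simp only [vecMulVec_smul, smul_vecMulVec, smul_smul]
  module

theorem h9_Qmem_smul (hF : Fintype.card F = q ^ 2) (hst : h9_IsHerm q st)
    (H : Subgroup (SpecialLinearGroup (Fin n) F)) (z : Fin n → F) (hQ : h9_Qmem q st H z) (a : F)
    (ha : a ≠ 0) : h9_Qmem q st H (a • z) := by
  intro M hM ⟨v, c, hv, hc, hMe⟩
  have haq : a ^ q ≠ 0 := pow_ne_zero _ ha
  apply hQ M hM
  refine ⟨a ^ q • v, c * a * a ^ q, ?_, ?_, ?_⟩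
  · rw [h9_f_smul_right hst] at hv
    rw [h9_f_smul_left]
    rcases mul_eq_zero.mp hv with h | h
    · exact absurd h haq
    · rw [h, mul_zero]
  · rw [h9_f_smul_left, h9_f_smul_right hst, Cfsg.Agent.Helper7.Herm.pow_q_pow_q hF, mul_pow, mul_pow,
      Cfsg.Agent.Helper7.Herm.pow_q_pow_q hF]
    linear_combination (a * a ^ q) * hc
  · rw [hMe, h9_E_smul hF hst]

theorem h9_Qmem_conj (H : Subgroup (SpecialLinearGroup (Fin n) F)) (hH : H ≤ h9_G st) (z : Fin n → F)
    (hQ : h9_Qmem q st H z) (k : SpecialLinearGroup (Fin n) F) (hk : k ∈ H) :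
    h9_Qmem q st H (k.1 *ᵥ z) := by
  intro M hM ⟨v, c, hv, hc, hMe⟩
  have hkG : k ∈ h9_G st := hH hk
  have hkiG : k⁻¹ ∈ h9_G st := inv_mem hkG
  have hzz : (k⁻¹ : SpecialLinearGroup (Fin n) F).1 *ᵥ (k.1 *ᵥ z) = z := by
    rw [mulVec_mulVec, h9_coe_inv_mul, one_mulVec]
  have hM' : k⁻¹ * M * k ∈ H := by
    apply hQ _ (mul_mem (mul_mem hkiG hM) hkG)
    refine ⟨(k⁻¹ : SpecialLinearGroup (Fin n) F).1 *ᵥ v, c, ?_, ?_, ?_⟩
    · have := (h9_mem_G st _).1 hkiG v (k.1 *ᵥ z)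
      rw [hzz] at this
      rw [this, hv]
    · have := (h9_mem_G st _).1 hkiG v v
      rw [this, hc]
    · have h1 := h9_E_conj k⁻¹ hkiG (k.1 *ᵥ z) v c
      rw [inv_inv, hzz] at h1
      rw [← h1, ← hMe]
      rfl
  have : M = k * (k⁻¹ * M * k) * k⁻¹ := by group
  rw [this]
  exact mul_mem (mul_mem hk hM') (inv_mem hk)

/-- `Q_s` is transitive on the isotropic vectors `p` with a given value `f(p,s) ≠ 0`. -/
theorem h9_trans (hF : Fintype.card F = q ^ 2) (hst : h9_IsHerm q st)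
    (H : Subgroup (SpecialLinearGroup (Fin n) F)) (s : Fin n → F) (hs : h9_f st s s = 0)
    (hQ : h9_Qmem q st H s) (p y : Fin n → F) (hp : h9_f st p p = 0) (hy : h9_f st y y = 0)
    (hps : h9_f st p s ≠ 0) (hys : h9_f st y s = h9_f st p s) :
    ∃ M : SpecialLinearGroup (Fin n) F, M ∈ H ∧ M ∈ h9_G st ∧ M.1 *ᵥ p = y := by
  set μ := h9_f st p s with hμ
  have hμq : μ ^ q ≠ 0 := pow_ne_zero _ hps
  set v : Fin n → F := μ⁻¹ • (y - p) with hvdef
  set c : F := μ⁻¹ * h9_f st p v with hcdef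
  have hvs : h9_f st v s = 0 := by
    rw [hvdef, h9_f_smul_left, h9_f_sub_left, hys, ← hμ, sub_self, mul_zero]
  have hA : h9_f st y p = (h9_f st p y) ^ q := (h9_f_conj hst p y).symm
  have hpv : h9_f st p v = (μ⁻¹) ^ q * h9_f st p y := by
    rw [hvdef, h9_f_smul_right hst, h9_f_sub_right hst, hp, sub_zero]
  have hvv : h9_f st v v = -(μ⁻¹ * (μ⁻¹) ^ q * (h9_f st p y + (h9_f st p y) ^ q)) := by
    rw [hvdef, h9_f_smul_left, h9_f_smul_right hst, h9_f_sub_left, h9_f_sub_right hst,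
      h9_f_sub_right hst, hy, hp, hA]
    ring
  have hc : c + c ^ q + h9_f st v v = 0 := by
    rw [hvv, hcdef, hpv, mul_pow, mul_pow, Cfsg.Agent.Helper7.Herm.pow_q_pow_q hF]
    ring
  refine ⟨h9_Esl hF hst s v c hs hvs, ?_, h9_Esl_mem hF hst s v c hs hvs hc, ?_⟩
  · exact hQ _ (h9_Esl_mem hF hst s v c hs hvs hc) ⟨v, c, hvs, hc, rfl⟩
  · show h9_E st s v c *ᵥ p = y
    rw [h9_E_mulVec, ← hμ, hcdef]
    have e1 : μ • v = y - p := by
      rw [hvdef, smul_smul, mul_inv_cancel₀ hps, one_smul]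
    have e2 : μ⁻¹ * h9_f st p v * μ = h9_f st p v := by
      field_simp
    rw [e1, e2]
    abel

/-- two isotropic vectors `w ⊥ y` have a common opposite isotropic vector -/
theorem h9_common_opp (hF : Fintype.card F = q ^ 2) (hq : 2 ≤ q) (hst : h9_IsHerm q st)
    (w y : Fin n → F) (hw : h9_f st w w = 0) (hw0 : w ≠ 0) (hy0 : y ≠ 0) (hwy : h9_f st w y = 0) :
    ∃ z : Fin n → F, h9_f st z z = 0 ∧ h9_f st z w ≠ 0 ∧ h9_f st z y ≠ 0 := by
  obtain ⟨x, hxw, hxy⟩ : ∃ x : Fin n → F, h9_f st x w ≠ 0 ∧ h9_f st x y ≠ 0 := by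
    obtain ⟨x1, h1⟩ := hst.nondeg w hw0
    obtain ⟨x2, h2⟩ := hst.nondeg y hy0
    by_cases h3 : h9_f st x1 y = 0
    · by_cases h4 : h9_f st x2 w = 0
      · refine ⟨x1 + x2, ?_, ?_⟩
        · rw [h9_f_add_left, h4, add_zero]; exact h1
        · rw [h9_f_add_left, h3, zero_add]; exact h2
      · exact ⟨x2, h4, h2⟩
    · exact ⟨x1, h1, h3⟩
  have hfix : (-(h9_f st x x)) ^ q = -(h9_f st x x) := by
    rw [Cfsg.Agent.SU3G.h1_su_neg_pow q hF, h9_f_conj hst]
  obtain ⟨b, hb⟩ := Cfsg.Agent.SU3G.h1_su_trace_surj q hF hq _ hfix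
  have hxwq : (h9_f st x w) ^ q ≠ 0 := pow_ne_zero _ hxw
  refine ⟨x + (b / (h9_f st x w) ^ q) • w, ?_, ?_, ?_⟩
  · have hwx : h9_f st w x = (h9_f st x w) ^ q := (h9_f_conj hst x w).symm
    rw [h9_f_add_left, h9_f_add_right hst, h9_f_add_right hst, h9_f_smul_left, h9_f_smul_left,
      h9_f_smul_right hst, h9_f_smul_right hst, hw, hwx, div_pow,
      Cfsg.Agent.Helper7.Herm.pow_q_pow_q hF]
    have e1 : b ^ q / h9_f st x w * h9_f st x w = b ^ q := by field_simp
    have e2 : b / h9_f st x w ^ q * h9_f st x w ^ q = b := by field_simp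
    rw [e1, e2]
    linear_combination hb
  · rw [h9_f_add_left, h9_f_smul_left, hw, mul_zero, add_zero]; exact hxw
  · rw [h9_f_add_left, h9_f_smul_left, hwy, mul_zero, add_zero]; exact hxy

end opp

section main

variable [Fintype F] {q : ℕ} {st : (Fin n → F) → (Fin n → F)}

/-- one step along the opposition graph -/
theorem h9_opp_step (hF : Fintype.card F = q ^ 2) (hst : h9_IsHerm q st)
    (H : Subgroup (SpecialLinearGroup (Fin n) F)) (hH : H ≤ h9_G st)
    (s : Fin n → F) (hs : h9_f st s s = 0) (hQs : h9_Qmem q st H s)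
    (p : Fin n → F) (hp : h9_f st p p = 0) (hQp : h9_Qmem q st H p) (hps : h9_f st p s ≠ 0)
    (y : Fin n → F) (hy : h9_f st y y = 0) (hys : h9_f st y s ≠ 0) : h9_Qmem q st H y := by
  set lam : F := h9_f st p s / h9_f st y s with hlam
  have hlam0 : lam ≠ 0 := div_ne_zero hps hys
  have hy' : h9_f st (lam • y) (lam • y) = 0 := by
    rw [h9_f_smul_left, h9_f_smul_right hst, hy, mul_zero, mul_zero]
  have hys' : h9_f st (lam • y) s = h9_f st p s := by
    rw [h9_f_smul_left, hlam]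
    field_simp
  obtain ⟨M, hMH, -, hMp⟩ := h9_trans hF hst H s hs hQs p (lam • y) hp hy' hps hys'
  have h1 : h9_Qmem q st H (lam • y) := by
    rw [← hMp]
    exact h9_Qmem_conj H hH p hQp M hMH
  have h2 := h9_Qmem_smul hF hst H (lam • y) h1 lam⁻¹ (inv_ne_zero hlam0)
  rwa [smul_smul, inv_mul_cancel₀ hlam0, one_smul] at h2

/-- **The opposition-graph lemma.** -/
theorem h9_opp (hF : Fintype.card F = q ^ 2) (hq : 2 ≤ q) (hst : h9_IsHerm q st)
    (H : Subgroup (SpecialLinearGroup (Fin n) F)) (hH : H ≤ h9_G st)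
    (w : Fin n → F) (hw0 : w ≠ 0) (hw : h9_f st w w = 0) (hQ : h9_Qmem q st H w)
    (hk : ∃ k ∈ H, h9_f st ((k : Matrix (Fin n) (Fin n) F) *ᵥ w) w ≠ 0) :
    ∀ z : Fin n → F, z ≠ 0 → h9_f st z z = 0 → h9_Qmem q st H z := by
  obtain ⟨k, hkH, hkw⟩ := hk
  have hq0 : q ≠ 0 := by omega
  have hpp : h9_f st (k.1 *ᵥ w) (k.1 *ᵥ w) = 0 := by
    rw [(h9_mem_G st k).1 (hH hkH) w w, hw]
  have hQp : h9_Qmem q st H (k.1 *ᵥ w) := h9_Qmem_conj H hH w hQ k hkH
  have hne : ∀ a b : Fin n → F, h9_f st a b ≠ 0 → h9_f st b a ≠ 0 := by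
    intro a b hab h0
    apply hab
    rw [← h9_f_conj hst b a, h0, zero_pow hq0]
  have step1 : ∀ y : Fin n → F, h9_f st y y = 0 → h9_f st y w ≠ 0 → h9_Qmem q st H y :=
    fun y hy hyw => h9_opp_step hF hst H hH w hw hQ _ hpp hQp hkw y hy hyw
  intro z hz0 hz
  by_cases hzw : h9_f st z w = 0
  · have hwz : h9_f st w z = 0 := by
      rw [← h9_f_conj hst z w, hzw, zero_pow hq0]
    obtain ⟨z1, hz1, hz1w, hz1z⟩ := h9_common_opp hF hq hst w z hw hw0 hz0 hwz
    have hQ1 := step1 z1 hz1 hz1w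
    exact h9_opp_step hF hst H hH z1 hz1 hQ1 w hw hQ (hne _ _ hz1w) z hz (hne _ _ hz1z)
  · exact step1 z hz hzw

end main

/-! ## The antidiagonal model of `Helper3/SUTransport` -/

section Jmodel

open Cfsg.Agent.Helper3.SUT

variable [Fintype F] {q : ℕ}

/-- the conjugate-dual map of the antidiagonal form -/
def h9_sJ (q : ℕ) (x : Fin n → F) : Fin n → F := fun j => (x (Fin.rev j)) ^ q

theorem h9_hJ_eq (x y : Fin n → F) : hJ n q x y = h9_f (h9_sJ q) x y := rfl

theorem h9_SUJ_eq : SUJ n F q = h9_G (h9_sJ (n := n) (F := F) q) := rfl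

theorem h9_sJ_isHerm (hF : Fintype.card F = q ^ 2) : h9_IsHerm q (h9_sJ (n := n) (F := F) q) where
  add x y := by
    funext j
    simp only [h9_sJ, Pi.add_apply]
    rw [Cfsg.Agent.Helper7.Herm.add_pow_q hF]
  smul a x := by
    funext j
    simp only [h9_sJ, Pi.smul_apply, smul_eq_mul]
    rw [mul_pow]
  herm x y := by
    simp only [dotProduct, h9_sJ]
    rw [Cfsg.Agent.Helper7.Herm.sum_pow_q hF]
    rw [← Equiv.sum_comp Fin.revPerm]
    apply Finset.sum_congr rfl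
    intro i _
    rw [mul_pow, Cfsg.Agent.Helper7.Herm.pow_q_pow_q hF, Fin.revPerm_apply, Fin.rev_rev, mul_comm]
  nondeg y hy := by
    obtain ⟨j, hj⟩ := Function.ne_iff.mp hy
    refine ⟨Pi.single (Fin.rev j) 1, ?_⟩
    rw [single_one_dotProduct]
    simp only [h9_sJ, Fin.rev_rev]
    exact pow_ne_zero _ hj

/-- the Eichler/Siegel element of the `J`-model -/
def h9_EJ (q : ℕ) (z v : Fin n → F) (c : F) : Matrix (Fin n) (Fin n) F :=
  1 + vecMulVec v (h9_sJ q z) - vecMulVec z (h9_sJ q v) + c • vecMulVec z (h9_sJ q z)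

theorem h9_EJ_eq (z v : Fin n → F) (c : F) : h9_EJ q z v c = h9_E (h9_sJ q) z v c := rfl

theorem h9_EJ_zero (hF : Fintype.card F = q ^ 2) (w : Fin n → F) (c : F) : h9_EJ q w 0 c = TJ n q w c := by
  unfold h9_EJ TJ
  rw [h9_st_zero (h9_sJ_isHerm hF), zero_vecMulVec, vecMulVec_zero, add_zero, sub_zero]
  rfl

end Jmodel

section genN

open Cfsg.Agent.Helper3.SUT

variable [Fintype F] {q : ℕ}

/-- a `J`-transvection `TJ w c` (`w ≠ 0` isotropic) lying in `SUJ` has `c + c̄ = 0` -/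
theorem h9_TJ_trace (hF : Fintype.card F = q ^ 2) (w : Fin n → F) (hw0 : w ≠ 0) (hw : hJ n q w w = 0) (c : F)
    (M : SpecialLinearGroup (Fin n) F) (hM : M ∈ SUJ n F q)
    (hMe : (M : Matrix (Fin n) (Fin n) F) = TJ n q w c) : c + c ^ q = 0 := by
  have hst := h9_sJ_isHerm (n := n) (F := F) hF
  obtain ⟨x, hx⟩ := hst.nondeg w hw0
  change h9_f (h9_sJ q) x w ≠ 0 at hx
  have h := (mem_SUJ M).1 hM x x
  rw [hMe, TJ_mulVec] at h
  simp only [h9_hJ_eq] at h hw
  rw [h9_f_add_left, h9_f_add_right hst, h9_f_add_right hst, h9_f_smul_left, h9_f_smul_left,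
    h9_f_smul_right hst, h9_f_smul_right hst, hw, mul_pow, ← h9_f_conj hst x w] at h
  have hN : h9_f (h9_sJ q) x w * (h9_f (h9_sJ q) x w) ^ q ≠ 0 := mul_ne_zero hx (pow_ne_zero _ hx)
  have h2 : (c + c ^ q) * (h9_f (h9_sJ q) x w * (h9_f (h9_sJ q) x w) ^ q) = 0 := by
    linear_combination h
  rcases mul_eq_zero.mp h2 with h3 | h3
  · exact h3
  · exact absurd h3 hN

/-- **GEN-n.** A subgroup `H ≤ SUJ n F q` containing the full radical `Q_w` of one isotropic point and an element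
moving `w` off `w^⊥` is all of `SUJ n F q`. -/
theorem h9_genN (hF : Fintype.card F = q ^ 2) (hn : 3 ≤ n) (h32 : ¬ (n = 3 ∧ q = 2))
    (H : Subgroup (SpecialLinearGroup (Fin n) F)) (hH : H ≤ SUJ n F q)
    (w : Fin n → F) (hw0 : w ≠ 0) (hw : hJ n q w w = 0)
    (hQ : ∀ M ∈ SUJ n F q, (∃ (v : Fin n → F) (c : F), hJ n q v w = 0 ∧ c + c ^ q + hJ n q v v = 0 ∧
      (M : Matrix (Fin n) (Fin n) F) = h9_EJ q w v c) → M ∈ H)
    (hopp : ∃ k ∈ H, hJ n q ((k : Matrix (Fin n) (Fin n) F) *ᵥ w) w ≠ 0) : H = SUJ n F q := by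
  have hst := h9_sJ_isHerm (n := n) (F := F) hF
  have hq : 2 ≤ q := by
    have h1 := Cfsg.Agent.Helper7.Herm.one_le_q hF
    rcases Nat.lt_or_ge q 2 with h | h
    · have hq1 : q = 1 := by omega
      subst hq1
      have := Fintype.one_lt_card (α := F)
      omega
    · exact h
  have hall := h9_opp hF hq hst H hH w hw0 hw hQ hopp
  apply le_antisymm hH
  apply SUJ_le_of_transvections hF hn h32 H
  intro M hM ⟨z, c, hz, hMe⟩
  by_cases hz0 : z = 0
  · have : M = 1 := by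
      apply Subtype.ext
      rw [hMe, hz0]
      unfold TJ
      rw [zero_vecMulVec, smul_zero, add_zero]
      rfl
    rw [this]
    exact one_mem H
  · have hc := h9_TJ_trace hF z hz0 hz c M hM hMe
    apply hall z hz0 hz M hM
    refine ⟨0, c, h9_f_zero_left _, ?_, ?_⟩
    · rw [h9_f_zero_left, add_zero, hc]
    · rw [hMe, ← h9_EJ_zero hF]
      rfl

end genN

end Cfsg.Agent.SUNG
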