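import Mathlib
import Cfsg.Agent.SUNG.H9_Opp
import Cfsg.Agent.SLNG.H1_Core

/-!
# S2282 swarm (helper7): Eichler calculus on top of `SUNG/H9_Opp`, the radical part `MG` inside a subgroup,
`Big`, and "Full from Big"

Conventions of `H9_Opp`: `f x y = x ⬝ᵥ st y` is linear in `x`, `q`-semilinear in `y`,
`E(z,v,c) x = x + f(x,z) v − f(x,v) z + c f(x,z) z`.

* `h7_E_mul`  : `E(z,v,c) E(z,v',c') = E(z, v+v', c+c'−f(v',v))`
* `h7_E_zero` : `E(z,0,0) = 1`
* `h7_E_inv_mul`, `h7_E_mul_inv` : the inverse of `E(z,v,c)` is `E(z,−v,−c−f(v,v))`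
* `h7_E_comm` : `E(z,v,c) E(z,v',c') = E(z,0,f(v,v')−f(v',v)) (E(z,v',c') E(z,v,c))`
* `h7_MG`     : the additive group of the `v ⟂ z` with some `E(z,v,c)` in `H`
* `h7_full_of_big` : if `MG` is all of `z^⟂` then `H` contains the whole radical `Q_z` (`h9_Qmem`)
* `h7_genN_big` : the `J`-model criterion: `Big` + an opposite element ⇒ `H = SUJ n F q`
-/

set_option autoImplicit false

namespace Cfsg.Agent.SUNG

open Matrix Cfsg

variable {F : Type*} [Field F] {n : ℕ}

section calculus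

variable {q : ℕ} {st : (Fin n → F) → (Fin n → F)}

theorem h7_ext_mulVec {A B : Matrix (Fin n) (Fin n) F} (h : ∀ x : Fin n → F, A *ᵥ x = B *ᵥ x) :
    A = B := by
  apply Matrix.toLin'.injective
  apply LinearMap.ext
  intro x
  rw [Matrix.toLin'_apply, Matrix.toLin'_apply]
  exact h x

/-- orthogonality is symmetric -/
theorem h7_f_swap_zero (hst : h9_IsHerm q st) (hq0 : q ≠ 0) {x y : Fin n → F}
    (h : h9_f st x y = 0) : h9_f st y x = 0 := by
  rw [← h9_f_conj hst x y, h, zero_pow hq0]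

theorem h7_f_neg_left (x y : Fin n → F) : h9_f st (-x) y = -h9_f st x y := by
  unfold h9_f; rw [neg_dotProduct]

theorem h7_f_neg_right (hst : h9_IsHerm q st) (x y : Fin n → F) :
    h9_f st x (-y) = -h9_f st x y := by
  unfold h9_f; rw [h9_st_neg hst, dotProduct_neg]

/-- **product of two Eichler elements with the same centre** (minimal hypotheses) -/
theorem h7_E_mul (hst : h9_IsHerm q st) (z v v' : Fin n → F) (c c' : F)
    (hz : h9_f st z z = 0) (hzv : h9_f st z v = 0) (hv'z : h9_f st v' z = 0) :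
    h9_E st z v c * h9_E st z v' c' = h9_E st z (v + v') (c + c' - h9_f st v' v) := by
  apply h7_ext_mulVec
  intro x
  rw [← mulVec_mulVec, h9_E_mulVec, h9_E_mulVec, h9_E_mulVec]
  simp only [h9_f_add_left, h9_f_sub_left, h9_f_smul_left, h9_f_add_right hst, hz, hzv, hv'z,
    mul_zero, add_zero, sub_zero]
  module

theorem h7_E_zero (hst : h9_IsHerm q st) (z : Fin n → F) : h9_E st z 0 0 = 1 := by
  unfold h9_E
  rw [h9_st_zero hst, zero_vecMulVec, vecMulVec_zero, zero_smul, add_zero, sub_zero, add_zero]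

/-- change of the central parameter -/
theorem h7_E_mul_central (hst : h9_IsHerm q st) (z v : Fin n → F) (c d : F)
    (hz : h9_f st z z = 0) (hzv : h9_f st z v = 0) :
    h9_E st z v c * h9_E st z 0 d = h9_E st z v (c + d) := by
  rw [h7_E_mul hst z v 0 c d hz hzv (h9_f_zero_left _), add_zero, h9_f_zero_left, sub_zero]

theorem h7_central_mul_E (hst : h9_IsHerm q st) (z v : Fin n → F) (c d : F)
    (hz : h9_f st z z = 0) (hvz : h9_f st v z = 0) :
    h9_E st z 0 d * h9_E st z v c = h9_E st z v (d + c) := by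
  rw [h7_E_mul hst z 0 v d c hz (h9_f_zero_right hst _) hvz, zero_add, h9_f_zero_right hst, sub_zero]

theorem h7_E_mul_inv (hst : h9_IsHerm q st) (z v : Fin n → F) (c : F)
    (hz : h9_f st z z = 0) (hzv : h9_f st z v = 0) (hvz : h9_f st v z = 0) :
    h9_E st z v c * h9_E st z (-v) (-c - h9_f st v v) = 1 := by
  have h1 : h9_f st (-v) z = 0 := by rw [h7_f_neg_left, hvz, neg_zero]
  rw [h7_E_mul hst z v (-v) c _ hz hzv h1, add_neg_cancel, h7_f_neg_left]
  have e : c + (-c - h9_f st v v) - -h9_f st v v = 0 := by ring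
  rw [e, h7_E_zero hst]

theorem h7_E_inv_mul (hst : h9_IsHerm q st) (z v : Fin n → F) (c : F)
    (hz : h9_f st z z = 0) (hzv : h9_f st z v = 0) (hvz : h9_f st v z = 0) :
    h9_E st z (-v) (-c - h9_f st v v) * h9_E st z v c = 1 := by
  have h1 : h9_f st z (-v) = 0 := by rw [h7_f_neg_right hst, hzv, neg_zero]
  rw [h7_E_mul hst z (-v) v _ c hz h1 hvz, neg_add_cancel, h7_f_neg_right hst]
  have e : -c - h9_f st v v + c - -h9_f st v v = 0 := by ring
  rw [e, h7_E_zero hst]

/-- **commutator of two Eichler elements with the same centre** -/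
theorem h7_E_comm (hst : h9_IsHerm q st) (z v v' : Fin n → F) (c c' : F)
    (hz : h9_f st z z = 0) (hzv : h9_f st z v = 0) (hvz : h9_f st v z = 0)
    (hzv' : h9_f st z v' = 0) (hv'z : h9_f st v' z = 0) :
    h9_E st z v c * h9_E st z v' c' =
      h9_E st z 0 (h9_f st v v' - h9_f st v' v) * (h9_E st z v' c' * h9_E st z v c) := by
  have h1 : h9_f st (v' + v) z = 0 := by rw [h9_f_add_left, hv'z, hvz, add_zero]
  rw [h7_E_mul hst z v v' c c' hz hzv hv'z, h7_E_mul hst z v' v c' c hz hzv' hvz,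
    h7_central_mul_E hst z _ _ _ hz h1, add_comm v' v]
  congr 1
  ring

/-- `E(z, s z, c)` is central -/
theorem h7_E_smul_self (hst : h9_IsHerm q st) (z : Fin n → F) (s c : F) :
    h9_E st z (s • z) c = h9_E st z 0 (c + s - s ^ q) := by
  unfold h9_E
  rw [hst.smul, h9_st_zero hst]
  simp only [vecMulVec_smul, smul_vecMulVec, zero_vecMulVec, vecMulVec_zero]
  module

/-- scaling the second vector -/
theorem h7_E_swap (hst : h9_IsHerm q st) (z v : Fin n → F) :
    h9_E st z v 0 = h9_E st v (-z) 0 := by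
  unfold h9_E
  rw [h9_st_neg hst]
  simp only [vecMulVec_neg, neg_vecMulVec, zero_smul]
  abel

end calculus

section radical

open Cfsg.Agent.SLNG

variable [Fintype F] {q : ℕ} {st : (Fin n → F) → (Fin n → F)}

theorem h7_q_ne_zero (hF : Fintype.card F = q ^ 2) : q ≠ 0 := by
  have := Cfsg.Agent.Helper7.Herm.one_le_q hF
  omega

/-- the value of the form on the images under `E(z,v,c)` -/
theorem h7_E_form (hF : Fintype.card F = q ^ 2) (hst : h9_IsHerm q st) (z v : Fin n → F) (c : F)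
    (hz : h9_f st z z = 0) (hvz : h9_f st v z = 0) (x y : Fin n → F) :
    h9_f st (h9_E st z v c *ᵥ x) (h9_E st z v c *ᵥ y) =
      h9_f st x y + h9_f st x z * (h9_f st y z) ^ q * (c + c ^ q + h9_f st v v) := by
  have hzv : h9_f st z v = 0 := h7_f_swap_zero hst (h7_q_ne_zero hF) hvz
  have hvy : h9_f st v y = (h9_f st y v) ^ q := (h9_f_conj hst y v).symm
  have hzy : h9_f st z y = (h9_f st y z) ^ q := (h9_f_conj hst y z).symm
  rw [h9_E_mulVec, h9_E_mulVec]
  simp only [h9_f_add_left, h9_f_sub_left, h9_f_smul_left, h9_f_add_right hst, h9_f_sub_right hst,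
    h9_f_smul_right hst, hz, hvz, hzv, hvy, hzy, mul_pow]
  ring

/-- an Eichler element `E(z,v,c)` (`z ≠ 0`) which is an isometry satisfies the trace condition -/
theorem h7_E_trace (hF : Fintype.card F = q ^ 2) (hst : h9_IsHerm q st) (z v : Fin n → F) (c : F)
    (hz0 : z ≠ 0) (hz : h9_f st z z = 0) (hvz : h9_f st v z = 0)
    (hiso : ∀ x y : Fin n → F,
      h9_f st (h9_E st z v c *ᵥ x) (h9_E st z v c *ᵥ y) = h9_f st x y) :
    c + c ^ q + h9_f st v v = 0 := by
  obtain ⟨x, hx⟩ := hst.nondeg z hz0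
  change h9_f st x z ≠ 0 at hx
  have h := hiso x x
  rw [h7_E_form hF hst z v c hz hvz] at h
  have h2 : h9_f st x z * (h9_f st x z) ^ q * (c + c ^ q + h9_f st v v) = 0 := by
    linear_combination h
  rcases mul_eq_zero.mp h2 with h3 | h3
  · exact absurd h3 (mul_ne_zero hx (pow_ne_zero _ hx))
  · exact h3

/-- the vectors `v ⟂ z` such that some Eichler element `E(z,v,c)` lies in `H` -/
def h7_MG (hF : Fintype.card F = q ^ 2) (hst : h9_IsHerm q st)
    (H : Subgroup (SpecialLinearGroup (Fin n) F)) (z : Fin n → F) (hz : h9_f st z z = 0) :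
    AddSubgroup (Fin n → F) where
  carrier := {v | h9_f st v z = 0 ∧ ∃ c : F, HasM H (h9_E st z v c)}
  zero_mem' := ⟨h9_f_zero_left _, 0, by rw [h7_E_zero hst]; exact HasM.one⟩
  add_mem' := by
    rintro v v' ⟨h, c, hc⟩ ⟨h', c', hc'⟩
    refine ⟨by rw [h9_f_add_left, h, h', add_zero], c + c' - h9_f st v' v, ?_⟩
    rw [← h7_E_mul hst z v v' c c' hz (h7_f_swap_zero hst (h7_q_ne_zero hF) h) h']
    exact hc.mul hc'
  neg_mem' := by
    rintro v ⟨h, c, hc⟩
    refine ⟨by rw [h7_f_neg_left, h, neg_zero], -c - h9_f st v v, ?_⟩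
    exact hc.inv (h7_E_mul_inv hst z v c hz (h7_f_swap_zero hst (h7_q_ne_zero hF) h) h)

theorem h7_mem_MG (hF : Fintype.card F = q ^ 2) (hst : h9_IsHerm q st)
    (H : Subgroup (SpecialLinearGroup (Fin n) F)) (z : Fin n → F) (hz : h9_f st z z = 0)
    (v : Fin n → F) :
    v ∈ h7_MG hF hst H z hz ↔ h9_f st v z = 0 ∧ ∃ c : F, HasM H (h9_E st z v c) := Iff.rfl

/-- multiples of `z` lie in `MG` -/
theorem h7_smul_self_mem_MG (hF : Fintype.card F = q ^ 2) (hst : h9_IsHerm q st)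
    (H : Subgroup (SpecialLinearGroup (Fin n) F)) (z : Fin n → F) (hz : h9_f st z z = 0) (s : F) :
    s • z ∈ h7_MG hF hst H z hz := by
  refine ⟨by rw [h9_f_smul_left, hz, mul_zero], -(s - s ^ q), ?_⟩
  rw [h7_E_smul_self hst]
  have e : -(s - s ^ q) + s - s ^ q = 0 := by ring
  rw [e, h7_E_zero hst]
  exact HasM.one

/-- `MG` is stable under the elements of `H` normalising the line `⟨z⟩`:
if `k z = a z` then `v ∈ MG → a^q • k v ∈ MG`. -/
theorem h7_MG_map (hF : Fintype.card F = q ^ 2) (hst : h9_IsHerm q st)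
    (H : Subgroup (SpecialLinearGroup (Fin n) F)) (hH : H ≤ h9_G st) (z : Fin n → F)
    (hz : h9_f st z z = 0) (k : SpecialLinearGroup (Fin n) F) (hk : k ∈ H) (a : F)
    (hkz : k.1 *ᵥ z = a • z) (v : Fin n → F) (hv : v ∈ h7_MG hF hst H z hz) :
    a ^ q • (k.1 *ᵥ v) ∈ h7_MG hF hst H z hz := by
  obtain ⟨h, c, hc⟩ := hv
  have hkG : k ∈ h9_G st := hH hk
  refine ⟨?_, c * a * a ^ q, ?_⟩
  · have h1 := (h9_mem_G st k).1 hkG v z
    rw [hkz, h9_f_smul_right hst, h] at h1
    rw [h9_f_smul_left, h1]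
  · have e := h9_E_conj k hkG z v c
    rw [hkz, h9_E_smul hF hst] at e
    rw [← e]
    exact hc.conj (HasM.of_mem hk) (h9_coe_mul_inv k)

/-- `MG` is stable under the elements of `H` fixing `z` -/
theorem h7_MG_map_fix (hF : Fintype.card F = q ^ 2) (hst : h9_IsHerm q st)
    (H : Subgroup (SpecialLinearGroup (Fin n) F)) (hH : H ≤ h9_G st) (z : Fin n → F)
    (hz : h9_f st z z = 0) (k : SpecialLinearGroup (Fin n) F) (hk : k ∈ H)
    (hkz : k.1 *ᵥ z = z) (v : Fin n → F) (hv : v ∈ h7_MG hF hst H z hz) :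
    k.1 *ᵥ v ∈ h7_MG hF hst H z hz := by
  have := h7_MG_map hF hst H hH z hz k hk 1 (by rw [hkz, one_smul]) v hv
  rwa [one_pow, one_smul] at this

/-- the whole of `z^⟂` occurs -/
def h7_Big (st : (Fin n → F) → (Fin n → F)) (H : Subgroup (SpecialLinearGroup (Fin n) F))
    (z : Fin n → F) : Prop :=
  ∀ v : Fin n → F, h9_f st v z = 0 → ∃ c : F, HasM H (h9_E st z v c)

theorem h7_big_of_MG (hF : Fintype.card F = q ^ 2) (hst : h9_IsHerm q st)
    (H : Subgroup (SpecialLinearGroup (Fin n) F)) (z : Fin n → F) (hz : h9_f st z z = 0)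
    (h : ∀ v : Fin n → F, h9_f st v z = 0 → v ∈ h7_MG hF hst H z hz) : h7_Big st H z :=
  fun v hv => (h v hv).2

/-- in dimension at least three, `z^⟂` is not totally isotropic -/
theorem h7_exists_perp (hst : h9_IsHerm q st) (hq0 : q ≠ 0) (hn : 3 ≤ n) (z : Fin n → F)
    (hz0 : z ≠ 0) :
    ∃ v1 v2 : Fin n → F, h9_f st v1 z = 0 ∧ h9_f st v2 z = 0 ∧ h9_f st v1 v2 ≠ 0 := by
  obtain ⟨x, hx⟩ := hst.nondeg z hz0
  change h9_f st x z ≠ 0 at hx
  -- a nonzero vector orthogonal to `z` and `x`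
  let A : Matrix (Fin 2) (Fin n) F := Matrix.of ![st z, st x]
  have hker : LinearMap.ker A.mulVecLin ≠ ⊥ := by
    apply LinearMap.ker_ne_bot_of_finrank_lt
    rw [Module.finrank_fin_fun, Module.finrank_fin_fun]
    omega
  obtain ⟨v, hvker, hv0⟩ := (Submodule.ne_bot_iff _).mp hker
  have hAv : A *ᵥ v = 0 := by
    have := LinearMap.mem_ker.mp hvker
    rwa [Matrix.mulVecLin_apply] at this
  have hvz : h9_f st v z = 0 := by
    have := congrFun hAv 0
    simp only [A, mulVec, Matrix.of_apply, Matrix.cons_val_zero, Pi.zero_apply] at this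
    unfold h9_f
    rw [dotProduct_comm]
    exact this
  have hvx : h9_f st v x = 0 := by
    have := congrFun hAv 1
    simp only [A, mulVec, Matrix.of_apply, Matrix.cons_val_one, Pi.zero_apply] at this
    unfold h9_f
    rw [dotProduct_comm]
    exact this
  have hxv : h9_f st x v = 0 := h7_f_swap_zero hst hq0 hvx
  obtain ⟨y, hy⟩ := hst.nondeg v hv0
  change h9_f st y v ≠ 0 at hy
  refine ⟨y - (h9_f st y z / h9_f st x z) • x, v, ?_, hvz, ?_⟩
  · rw [h9_f_sub_left, h9_f_smul_left, div_mul_cancel₀ _ hx, sub_self]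
  · rw [h9_f_sub_left, h9_f_smul_left, hxv, mul_zero, sub_zero]
    exact hy

/-- **Full from Big**: if every `v ⟂ z` occurs in some Eichler element of `H`, then `H` contains the whole
unipotent radical `Q_z`. -/
theorem h7_full_of_big (hF : Fintype.card F = q ^ 2) (hq : 2 ≤ q) (hst : h9_IsHerm q st) (hn : 3 ≤ n)
    (H : Subgroup (SpecialLinearGroup (Fin n) F)) (hH : H ≤ h9_G st) (z : Fin n → F) (hz0 : z ≠ 0)
    (hz : h9_f st z z = 0) (hbig : h7_Big st H z) : h9_Qmem q st H z := by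
  have hq0 : q ≠ 0 := by omega
  obtain ⟨v1, v2, hv1, hv2, h12⟩ := h7_exists_perp hst hq0 hn z hz0
  have hzv2 : h9_f st z v2 = 0 := h7_f_swap_zero hst hq0 hv2
  -- the central elements
  have hcen : ∀ d : F, d + d ^ q = 0 → HasM H (h9_E st z 0 d) := by
    intro d hd
    obtain ⟨t, ht⟩ := Cfsg.Agent.SU3G.h1_su_hilbert90 q hF hq d hd
    set v1' : Fin n → F := (-t / h9_f st v1 v2) • v1 with hv1'
    have hv1'z : h9_f st v1' z = 0 := by rw [hv1', h9_f_smul_left, hv1, mul_zero]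
    have hzv1' : h9_f st z v1' = 0 := h7_f_swap_zero hst hq0 hv1'z
    have e12 : h9_f st v1' v2 = -t := by
      rw [hv1', h9_f_smul_left, div_mul_cancel₀ _ h12]
    have e21 : h9_f st v2 v1' = -t ^ q := by
      rw [← h9_f_conj hst v1' v2, e12, Cfsg.Agent.SU3G.h1_su_neg_pow q hF]
    obtain ⟨c1, hc1⟩ := hbig v1' hv1'z
    obtain ⟨c2, hc2⟩ := hbig v2 hv2
    have hcomm := h7_E_comm hst z v1' v2 c1 c2 hz hzv1' hv1'z hzv2 hv2
    have hd' : h9_f st v1' v2 - h9_f st v2 v1' = d := by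
      rw [e12, e21, ← ht]; ring
    rw [hd'] at hcomm
    exact HasM.of_mul_right (hc2.mul hc1) (hcomm ▸ hc1.mul hc2)
  intro M hM ⟨v, c, hv, hc, hMe⟩
  obtain ⟨c0, hc0⟩ := hbig v hv
  -- the trace condition for `c0`
  have hc0t : c0 + c0 ^ q + h9_f st v v = 0 := by
    obtain ⟨M0, hM0, hM0e⟩ := hc0
    apply h7_E_trace hF hst z v c0 hz0 hz hv
    intro x y
    rw [← hM0e]
    exact (h9_mem_G st M0).1 (hH hM0) x y
  have hd : (c - c0) + (c - c0) ^ q = 0 := by
    have e : (c - c0) ^ q = c ^ q - c0 ^ q := by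
      rw [sub_eq_add_neg, Cfsg.Agent.Helper7.Herm.add_pow_q hF, Cfsg.Agent.SU3G.h1_su_neg_pow q hF,
        ← sub_eq_add_neg]
    rw [e]
    linear_combination hc - hc0t
  have h1 := (hcen (c - c0) hd).mul hc0
  rw [h7_central_mul_E hst z v c0 (c - c0) hz hv, sub_add_cancel, ← hMe] at h1
  exact h1.mem

/-- **Criterion** (abstract form): `Big` at one isotropic point and an element of `H` moving it off its
perpendicular give the full radical `Q_z ≤ H` at every isotropic point `z`. -/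
theorem h7_crit (hF : Fintype.card F = q ^ 2) (hq : 2 ≤ q) (hst : h9_IsHerm q st) (hn : 3 ≤ n)
    (H : Subgroup (SpecialLinearGroup (Fin n) F)) (hH : H ≤ h9_G st) (w : Fin n → F) (hw0 : w ≠ 0)
    (hw : h9_f st w w = 0) (hbig : h7_Big st H w)
    (hk : ∃ k ∈ H, h9_f st ((k : Matrix (Fin n) (Fin n) F) *ᵥ w) w ≠ 0) :
    ∀ z : Fin n → F, z ≠ 0 → h9_f st z z = 0 → h9_Qmem q st H z :=
  h9_opp hF hq hst H hH w hw0 hw (h7_full_of_big hF hq hst hn H hH w hw0 hw hbig) hk

end radical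

section Jmodel

open Cfsg.Agent.Helper3.SUT Cfsg.Agent.SLNG

variable [Fintype F] {q : ℕ}

theorem h7_two_le_q (hF : Fintype.card F = q ^ 2) : 2 ≤ q := by
  have h1 := Cfsg.Agent.Helper7.Herm.one_le_q hF
  rcases Nat.lt_or_ge q 2 with h | h
  · have hq1 : q = 1 := by omega
    subst hq1
    have := Fintype.one_lt_card (α := F)
    omega
  · exact h

/-- **GEN-n from Big.** A subgroup `H ≤ SUJ n F q` such that every `v ⟂ w` occurs in an Eichler element
`E(w,v,c)` of `H`, and containing an element moving `w` off `w^⟂`, is all of `SUJ n F q`. -/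
theorem h7_genN_big (hF : Fintype.card F = q ^ 2) (hn : 3 ≤ n) (h32 : ¬ (n = 3 ∧ q = 2))
    (H : Subgroup (SpecialLinearGroup (Fin n) F)) (hH : H ≤ SUJ n F q)
    (w : Fin n → F) (hw0 : w ≠ 0) (hw : hJ n q w w = 0)
    (hbig : ∀ v : Fin n → F, hJ n q v w = 0 → ∃ c : F, HasM H (h9_EJ q w v c))
    (hopp : ∃ k ∈ H, hJ n q ((k : Matrix (Fin n) (Fin n) F) *ᵥ w) w ≠ 0) : H = SUJ n F q := by
  have hst := h9_sJ_isHerm (n := n) (F := F) hF
  apply h9_genN hF hn h32 H hH w hw0 hw _ hopp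
  exact h7_full_of_big hF (h7_two_le_q hF) hst hn H hH w hw0 hw hbig

end Jmodel

end Cfsg.Agent.SUNG
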