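import Mathlib
import Cfsg.Agent.SUNG.H7_Eichler

/-!
# S2282 swarm (helper7): the standard Hermitian form as an instance of `SUNG/H9_Opp`, and the criterion
for subgroups of `Cfsg.SU n F q`

`h7_sS q y = fun j => y j ^ q`, so that `h9_f (h7_sS q) = hermForm n F q` and `h9_G (h7_sS q) = Cfsg.SU n F q`
(definitionally).  `h7_crit_std`: a subgroup `K` of `SU n F q` such that every `v ⟂ p` occurs in an Eichler
element `E(p,v,c)` of `K` (`p ≠ 0` isotropic), and containing an element moving `p` off `p^⟂`, is everything.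
-/

set_option autoImplicit false

namespace Cfsg.Agent.SUNG

open Matrix Cfsg Cfsg.Agent.SLNG

variable {F : Type*} [Field F] {n : ℕ}

/-- the conjugate-dual map of the standard Hermitian form -/
def h7_sS (q : ℕ) (y : Fin n → F) : Fin n → F := fun j => (y j) ^ q

theorem h7_hermForm_eq (q : ℕ) (x y : Fin n → F) : hermForm n F q x y = h9_f (h7_sS q) x y := rfl

theorem h7_SU_eq (q : ℕ) : Cfsg.SU n F q = h9_G (h7_sS (n := n) (F := F) q) := rfl

/-- an explicit matrix with the Eichler action is the Eichler element -/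
theorem h7_E_of_mulVec (st : (Fin n → F) → (Fin n → F)) (A : Matrix (Fin n) (Fin n) F)
    (z v : Fin n → F) (c : F)
    (h : ∀ x : Fin n → F, A *ᵥ x = x + h9_f st x z • v - h9_f st x v • z + (c * h9_f st x z) • z) :
    A = h9_E st z v c := by
  apply h7_ext_mulVec
  intro x
  rw [h, h9_E_mulVec]

section finite

variable [Fintype F] {q : ℕ}

theorem h7_sS_isHerm (hF : Fintype.card F = q ^ 2) : h9_IsHerm q (h7_sS (n := n) (F := F) q) where
  add x y := by
    funext j
    simp only [h7_sS, Pi.add_apply]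
    rw [Cfsg.Agent.Helper7.Herm.add_pow_q hF]
  smul a x := by
    funext j
    simp only [h7_sS, Pi.smul_apply, smul_eq_mul]
    rw [mul_pow]
  herm x y := by
    simp only [dotProduct, h7_sS]
    rw [Cfsg.Agent.Helper7.Herm.sum_pow_q hF]
    apply Finset.sum_congr rfl
    intro i _
    rw [mul_pow, Cfsg.Agent.Helper7.Herm.pow_q_pow_q hF, mul_comm]
  nondeg y hy := by
    obtain ⟨j, hj⟩ := Function.ne_iff.mp hy
    refine ⟨Pi.single j 1, ?_⟩
    rw [single_one_dotProduct]
    simp only [h7_sS]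
    exact pow_ne_zero _ hj

/-- the central Eichler elements of the standard form are the unitary transvections -/
theorem h7_E_std_zero (hF : Fintype.card F = q ^ 2) (p : Fin n → F) (s : F) :
    h9_E (h7_sS q) p 0 s = unitaryTransvection n q p s := by
  unfold h9_E unitaryTransvection
  rw [h9_st_zero (h7_sS_isHerm hF), zero_vecMulVec, vecMulVec_zero, add_zero, sub_zero]
  rfl

/-- **CRIT (standard form).** -/
theorem h7_crit_std (hF : Fintype.card F = q ^ 2) (hn : 3 ≤ n) (h32 : ¬ (n = 3 ∧ q = 2))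
    (K : Subgroup ↥(Cfsg.SU n F q)) (p : Fin n → F) (hp0 : p ≠ 0) (hp : hermForm n F q p p = 0)
    (hbig : ∀ v : Fin n → F, hermForm n F q v p = 0 → ∃ c : F, ∃ g ∈ K,
      ((g : SpecialLinearGroup (Fin n) F) : Matrix (Fin n) (Fin n) F) = h9_E (h7_sS q) p v c)
    (hopp : ∃ g ∈ K, hermForm n F q
      (((g : SpecialLinearGroup (Fin n) F) : Matrix (Fin n) (Fin n) F) *ᵥ p) p ≠ 0) : K = ⊤ := by
  have hst := h7_sS_isHerm (n := n) (F := F) hF
  set H : Subgroup (SpecialLinearGroup (Fin n) F) := K.map (Cfsg.SU n F q).subtype with hHdef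
  have hH : H ≤ h9_G (h7_sS (n := n) (F := F) q) := by
    rintro _ ⟨g, -, rfl⟩
    exact g.2
  have hbig' : h7_Big (h7_sS q) H p := by
    intro v hv
    obtain ⟨c, g, hg, hge⟩ := hbig v hv
    exact ⟨c, (g : SpecialLinearGroup (Fin n) F), ⟨g, hg, rfl⟩, hge⟩
  have hk : ∃ k ∈ H, h9_f (h7_sS q) ((k : Matrix (Fin n) (Fin n) F) *ᵥ p) p ≠ 0 := by
    obtain ⟨g, hg, hgp⟩ := hopp
    exact ⟨(g : SpecialLinearGroup (Fin n) F), ⟨g, hg, rfl⟩, hgp⟩
  have hall := h7_crit hF (h7_two_le_q hF) hst hn H hH p hp0 hp hbig' hk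
  rw [eq_top_iff, ← Cfsg.Agent.S0780.result hF n hn h32, Subgroup.closure_le]
  rintro B ⟨v, d, hv, hB⟩
  show B ∈ K
  have hmem : (B : SpecialLinearGroup (Fin n) F) ∈ H → B ∈ K := by
    rintro ⟨g, hg, hgB⟩
    have : g = B := Subtype.ext hgB
    rwa [← this]
  by_cases hv0 : v = 0
  · have : B = 1 := by
      apply Subtype.ext
      apply Subtype.ext
      rw [hB, hv0]
      unfold unitaryTransvection
      rw [zero_vecMulVec, smul_zero, add_zero]
      rfl
    rw [this]
    exact one_mem K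
  · apply hmem
    have hBe : ((B : SpecialLinearGroup (Fin n) F) : Matrix (Fin n) (Fin n) F)
        = h9_E (h7_sS q) v 0 d := by
      rw [hB, h7_E_std_zero hF]
    have hd : d + d ^ q + h9_f (h7_sS q) (0 : Fin n → F) 0 = 0 := by
      apply h7_E_trace hF hst v 0 d hv0 hv (h9_f_zero_left _)
      intro x y
      rw [← hBe]
      exact B.2 x y
    exact hall v hv0 hv (B : SpecialLinearGroup (Fin n) F) B.2 ⟨0, d, h9_f_zero_left _, hd, hBe⟩

end finite

end Cfsg.Agent.SUNG
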