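import Mathlib
import Cfsg.Agent.SUNG.H9_Opp

/-!
# S2282 swarm, shared definitions (helper6, architect)

`J`-model of `SU_n(q)`, `n = 2m+1`: `hJ n q x y = ∑ i, x i * (y (rev i)) ^ q` (`Helper3/SUTransport`), Eichler elements
`h9_EJ q z v c` (`SUNG/H9_Opp`).  Here: the `ℕ`-indexed standard basis vectors `h6_bv`, the values of `hJ` on them, and
the set `h6_MG q H z` of all `v ⊥ z` such that some `E(z,v,c)` lies in `H`.
-/

set_option autoImplicit false

namespace Cfsg.Agent.SUNG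

open Matrix Cfsg Cfsg.Agent.Helper3.SUT

variable {F : Type*} [Field F] {n : ℕ}

/-- basis vectors indexed by `ℕ` (zero when out of range). -/
def h6_bv (n : ℕ) (F : Type*) [Field F] (j : ℕ) : Fin n → F := fun i => if i.val = j then 1 else 0

theorem h6_bv_apply (j : ℕ) (i : Fin n) : h6_bv n F j i = if i.val = j then 1 else 0 := rfl

theorem h6_bv_self {j : ℕ} (hj : j < n) : h6_bv n F j ⟨j, hj⟩ = 1 := by
  rw [h6_bv_apply, if_pos rfl]

theorem h6_bv_ne {j : ℕ} (i : Fin n) (h : i.val ≠ j) : h6_bv n F j i = 0 := by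
  rw [h6_bv_apply, if_neg h]

theorem h6_bv_eq_single {j : ℕ} (hj : j < n) : h6_bv n F j = Pi.single (⟨j, hj⟩ : Fin n) 1 := by
  funext i
  rw [h6_bv_apply, Pi.single_apply]
  congr 1
  rw [Fin.ext_iff]

theorem h6_bv_ne_zero {j : ℕ} (hj : j < n) : h6_bv n F j ≠ 0 := by
  intro h
  have := congrFun h ⟨j, hj⟩
  rw [h6_bv_self hj] at this
  exact one_ne_zero this

/-- `A *ᵥ e_j` is the `j`-th column. -/
theorem h6_mulVec_bv (A : Matrix (Fin n) (Fin n) F) {j : ℕ} (hj : j < n) (i : Fin n) :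
    (A *ᵥ h6_bv n F j) i = A i ⟨j, hj⟩ := by
  rw [h6_bv_eq_single hj, mulVec_single_one]
  rfl

/-- every vector is the sum of its coordinates times the basis vectors. -/
theorem h6_eq_sum_bv (x : Fin n → F) : x = ∑ i : Fin n, x i • h6_bv n F i.val := by
  funext k
  rw [Finset.sum_apply]
  simp only [Pi.smul_apply, h6_bv_apply, smul_eq_mul, mul_ite, mul_one, mul_zero]
  rw [Finset.sum_eq_single k]
  · rw [if_pos rfl]
  · intro b _ hb
    rw [if_neg]
    intro h
    exact hb (Fin.ext h.symm)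
  · intro h
    exact absurd (Finset.mem_univ k) h

/-- `hJ x e_j = x_{n-1-j}`. -/
theorem h6_hJ_right_bv {q : ℕ} (hq : q ≠ 0) (x : Fin n → F) {j : ℕ} (hj : j < n) :
    hJ n q x (h6_bv n F j) = x ⟨n - 1 - j, by omega⟩ := by
  unfold hJ
  rw [Finset.sum_eq_single (⟨n - 1 - j, by omega⟩ : Fin n)]
  · rw [h6_bv_apply, if_pos, one_pow, mul_one]
    simp only [Fin.val_rev]
    omega
  · intro i _ hi
    rw [h6_bv_apply, if_neg, zero_pow hq, mul_zero]
    intro h
    apply hi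
    apply Fin.ext
    simp only [Fin.val_rev] at h
    simp only
    omega
  · intro h
    exact absurd (Finset.mem_univ _) h

/-- `hJ e_j y = (y_{n-1-j}) ^ q`. -/
theorem h6_hJ_left_bv {q : ℕ} (y : Fin n → F) {j : ℕ} (hj : j < n) :
    hJ n q (h6_bv n F j) y = (y ⟨n - 1 - j, by omega⟩) ^ q := by
  unfold hJ
  rw [Finset.sum_eq_single (⟨j, hj⟩ : Fin n)]
  · rw [h6_bv_self hj, one_mul]
    congr 2
    apply Fin.ext
    simp only [Fin.val_rev]
    omega
  · intro i _ hi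
    rw [h6_bv_apply, if_neg, zero_mul]
    intro h
    exact hi (Fin.ext h)
  · intro h
    exact absurd (Finset.mem_univ _) h

theorem h6_hJ_bv_bv {q : ℕ} (hq : q ≠ 0) {i j : ℕ} (_hi : i < n) (hj : j < n) :
    hJ n q (h6_bv n F i) (h6_bv n F j) = if i + j = n - 1 then 1 else 0 := by
  rw [h6_hJ_right_bv hq _ hj, h6_bv_apply]
  simp only
  by_cases h : i + j = n - 1
  · rw [if_pos h, if_pos (by omega)]
  · rw [if_neg h, if_neg (by omega)]

/-- `MG(H, z)`: the vectors `v ⊥ z` such that some Eichler element `E(z, v, c)` lies in `H`. -/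
def h6_MG (q : ℕ) (H : Subgroup (SpecialLinearGroup (Fin n) F)) (z : Fin n → F) : Set (Fin n → F) :=
  {v | hJ n q v z = 0 ∧ ∃ c : F, c + c ^ q + hJ n q v v = 0 ∧
    ∃ M ∈ H, (M : Matrix (Fin n) (Fin n) F) = h9_EJ q z v c}

theorem h6_mem_MG (q : ℕ) (H : Subgroup (SpecialLinearGroup (Fin n) F)) (z v : Fin n → F) :
    v ∈ h6_MG q H z ↔ hJ n q v z = 0 ∧ ∃ c : F, c + c ^ q + hJ n q v v = 0 ∧
      ∃ M ∈ H, (M : Matrix (Fin n) (Fin n) F) = h9_EJ q z v c := Iff.rfl

end Cfsg.Agent.SUNG
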