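import Mathlib
import Cfsg.Agent.Helper3.SUTransport
import Cfsg.Agent.Helper3.UniTri

set_option autoImplicit false
set_option linter.unusedSectionVars false
set_option linter.unusedVariables false

/-!
# S2282 swarm, piece REG (helper3): root elements and the regular unipotent element in the
antidiagonal model

Model: `SUT.hJ n q x y = ∑ i, x i * (y (rev i)) ^ q`, `SUT.SUJ n F q ≤ SL_n(F)`.
* sesquilinear calculus for `hJ` (`h3_hJ_*`);
* Eichler criterion `h3_mem_of_mulVec`;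
* root elements `h3_X q i j t = 1 + t E_{ij} - t^q E_{j' i'}` and `h3_Q q i k a b`
  (`= 1 + a E_{ik} - a^q E_{k i'} + b E_{i i'}`, `k` the middle index);
* upper unitriangular calculus `h3_UT`;
* the regular unipotent `h3_u1`.
-/

namespace Cfsg.Agent.SUNG

open Matrix Cfsg Cfsg.Agent.Helper7.Herm Cfsg.Agent.Helper3

variable {F : Type*} [Field F] {n : ℕ}

/-! ### Sesquilinear calculus for `hJ` -/

theorem h3_hJ_eq_herm (q : ℕ) (x y : Fin n → F) :
    SUT.hJ n q x y = hermForm n F q x (fun i => y (Fin.rev i)) := rfl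

section sesq

variable [Fintype F] {q : ℕ}

theorem h3_hJ_add_left (x x' y : Fin n → F) :
    SUT.hJ n q (x + x') y = SUT.hJ n q x y + SUT.hJ n q x' y := by
  rw [h3_hJ_eq_herm, h3_hJ_eq_herm, h3_hJ_eq_herm, hermForm_add_left]

theorem h3_hJ_smul_left (a : F) (x y : Fin n → F) :
    SUT.hJ n q (a • x) y = a * SUT.hJ n q x y := by
  rw [h3_hJ_eq_herm, h3_hJ_eq_herm, hermForm_smul_left]

theorem h3_hJ_neg_left (x y : Fin n → F) : SUT.hJ n q (-x) y = -SUT.hJ n q x y := by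
  have := h3_hJ_smul_left (q := q) (-1 : F) x y
  rwa [neg_one_smul, neg_one_mul] at this

theorem h3_hJ_sub_left (x x' y : Fin n → F) :
    SUT.hJ n q (x - x') y = SUT.hJ n q x y - SUT.hJ n q x' y := by
  rw [sub_eq_add_neg, h3_hJ_add_left, h3_hJ_neg_left, ← sub_eq_add_neg]

theorem h3_hJ_add_right (hF : Fintype.card F = q ^ 2) (x y y' : Fin n → F) :
    SUT.hJ n q x (y + y') = SUT.hJ n q x y + SUT.hJ n q x y' := by
  rw [h3_hJ_eq_herm, h3_hJ_eq_herm, h3_hJ_eq_herm, ← hermForm_add_right hF]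
  rfl

theorem h3_hJ_smul_right (a : F) (x y : Fin n → F) :
    SUT.hJ n q x (a • y) = a ^ q * SUT.hJ n q x y := by
  rw [h3_hJ_eq_herm, h3_hJ_eq_herm, ← hermForm_smul_right]
  rfl

theorem h3_neg_pow_q (hF : Fintype.card F = q ^ 2) (a : F) : (-a) ^ q = -(a ^ q) := by
  have h := add_pow_q hF a (-a)
  rw [add_neg_cancel, zero_pow (by have := one_le_q hF; omega)] at h
  exact eq_neg_of_add_eq_zero_right h.symm

theorem h3_hJ_neg_right (hF : Fintype.card F = q ^ 2) (x y : Fin n → F) :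
    SUT.hJ n q x (-y) = -SUT.hJ n q x y := by
  have := h3_hJ_smul_right (q := q) (-1 : F) x y
  rwa [neg_one_smul, h3_neg_pow_q hF, one_pow, neg_one_mul] at this

theorem h3_hJ_sub_right (hF : Fintype.card F = q ^ 2) (x y y' : Fin n → F) :
    SUT.hJ n q x (y - y') = SUT.hJ n q x y - SUT.hJ n q x y' := by
  rw [sub_eq_add_neg, h3_hJ_add_right hF, h3_hJ_neg_right hF, ← sub_eq_add_neg]

theorem h3_hJ_swap (hF : Fintype.card F = q ^ 2) (x y : Fin n → F) :
    SUT.hJ n q x y = (SUT.hJ n q y x) ^ q := by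
  unfold SUT.hJ
  rw [sum_pow_q hF, ← Equiv.sum_comp Fin.revPerm]
  apply Finset.sum_congr rfl
  intro i _
  rw [Fin.revPerm_apply, Fin.rev_rev, mul_pow, pow_q_pow_q hF]
  ring

/-- `hJ x e_k = x (rev k)`. -/
theorem h3_hJ_single_right (hF : Fintype.card F = q ^ 2) (x : Fin n → F) (k : Fin n) :
    SUT.hJ n q x (Pi.single k 1) = x (Fin.rev k) := by
  have hq0 : q ≠ 0 := by have := one_le_q hF; omega
  unfold SUT.hJ
  rw [Finset.sum_eq_single (Fin.rev k)]
  · rw [Fin.rev_rev, Pi.single_eq_same, one_pow, mul_one]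
  · intro i _ hi
    rw [Pi.single_eq_of_ne (fun h => hi (by rw [← h, Fin.rev_rev])), zero_pow hq0, mul_zero]
  · intro h; exact absurd (Finset.mem_univ _) h

/-- `hJ e_k y = (y (rev k))^q`. -/
theorem h3_hJ_single_left (x : Fin n → F) (k : Fin n) :
    SUT.hJ n q (Pi.single k 1) x = (x (Fin.rev k)) ^ q := by
  unfold SUT.hJ
  rw [Finset.sum_eq_single k]
  · rw [Pi.single_eq_same, one_mul]
  · intro i _ hi
    rw [Pi.single_eq_of_ne hi, zero_mul]
  · intro h; exact absurd (Finset.mem_univ _) h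

/-- `hJ e_k e_l = [l = rev k]`. -/
theorem h3_hJ_single_single (hF : Fintype.card F = q ^ 2) (k l : Fin n) :
    SUT.hJ n q (Pi.single k (1 : F)) (Pi.single l 1) = if l = Fin.rev k then 1 else 0 := by
  rw [h3_hJ_single_right hF, Pi.single_apply]
  by_cases h : l = Fin.rev k
  · rw [if_pos h, if_pos (by rw [h, Fin.rev_rev])]
  · rw [if_neg h, if_neg (fun h' => h (by rw [← h', Fin.rev_rev]))]

/-! ### Eichler criterion -/

/-- **Eichler criterion.** If `z` is isotropic, `hJ v z = 0`, `c + c^q + hJ v v = 0` and `M` acts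
as `x ↦ x + hJ x z • v - hJ x v • z + (c * hJ x z) • z`, then `M ∈ SUJ`. -/
theorem h3_mem_of_mulVec (hF : Fintype.card F = q ^ 2) (M : SpecialLinearGroup (Fin n) F)
    (z v : Fin n → F) (c : F) (hz : SUT.hJ n q z z = 0) (hvz : SUT.hJ n q v z = 0)
    (hc : c + c ^ q + SUT.hJ n q v v = 0)
    (hM : ∀ x : Fin n → F, M.1 *ᵥ x =
      x + SUT.hJ n q x z • v - SUT.hJ n q x v • z + (c * SUT.hJ n q x z) • z) :
    M ∈ SUT.SUJ n F q := by
  rw [SUT.mem_SUJ]
  intro x y
  have hzv : SUT.hJ n q z v = 0 := by rw [h3_hJ_swap hF, hvz, zero_pow (by have := one_le_q hF; omega)]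
  have e1 : SUT.hJ n q v y = (SUT.hJ n q y v) ^ q := h3_hJ_swap hF v y
  have e2 : SUT.hJ n q z y = (SUT.hJ n q y z) ^ q := h3_hJ_swap hF z y
  rw [hM x, hM y]
  simp only [h3_hJ_add_left, h3_hJ_sub_left, h3_hJ_smul_left, h3_hJ_add_right hF,
    h3_hJ_sub_right hF, h3_hJ_smul_right, hz, hvz, hzv, e1, e2, mul_pow]
  linear_combination (SUT.hJ n q x z * (SUT.hJ n q y z) ^ q) * hc

end sesq

/-! ### Upper unitriangular matrices -/

/-- upper unitriangular. -/
def h3_UT (M : Matrix (Fin n) (Fin n) F) : Prop :=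
  (∀ i j : Fin n, (j : ℕ) < (i : ℕ) → M i j = 0) ∧ ∀ i : Fin n, M i i = 1

theorem h3_UT_one : h3_UT (1 : Matrix (Fin n) (Fin n) F) := by
  refine ⟨fun i j h => ?_, fun i => Matrix.one_apply_eq i⟩
  rw [Matrix.one_apply_ne]
  intro e; subst e; omega

theorem h3_UT.mul {A B : Matrix (Fin n) (Fin n) F} (hA : h3_UT A) (hB : h3_UT B) :
    h3_UT (A * B) := by
  refine ⟨fun i j h => ?_, fun i => ?_⟩
  · rw [Matrix.mul_apply]
    apply Finset.sum_eq_zero
    intro l _
    by_cases hl : (l : ℕ) < (i : ℕ)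
    · rw [hA.1 i l hl, zero_mul]
    · rw [hB.1 l j (by omega), mul_zero]
  · rw [Matrix.mul_apply, Finset.sum_eq_single i]
    · rw [hA.2, hB.2, mul_one]
    · intro l _ hl
      rcases Nat.lt_or_ge (l : ℕ) (i : ℕ) with h1 | h1
      · rw [hA.1 i l h1, zero_mul]
      · have : (i : ℕ) < (l : ℕ) := by
          rcases Nat.lt_or_ge (i : ℕ) (l : ℕ) with h2 | h2
          · exact h2
          · exact absurd (Fin.ext (by omega)) hl
        rw [hB.1 l i this, mul_zero]
    · intro h; exact absurd (Finset.mem_univ _) h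

/-- superdiagonals add. -/
theorem h3_UT.mul_super {A B : Matrix (Fin n) (Fin n) F} (hA : h3_UT A) (hB : h3_UT B)
    (i j : Fin n) (hij : (j : ℕ) = (i : ℕ) + 1) : (A * B) i j = A i j + B i j := by
  have hne : i ≠ j := by intro e; subst e; omega
  rw [Matrix.mul_apply, ← Finset.add_sum_erase _ _ (Finset.mem_univ i),
    ← Finset.add_sum_erase _ _ (Finset.mem_erase.2 ⟨hne.symm, Finset.mem_univ j⟩),
    Finset.sum_eq_zero, add_zero, hA.2, hB.2, one_mul, mul_one, add_comm]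
  intro l hl
  have hl1 : l ≠ j := (Finset.mem_erase.1 hl).1
  have hl2 : l ≠ i := (Finset.mem_erase.1 (Finset.mem_erase.1 hl).2).1
  rcases Nat.lt_or_ge (l : ℕ) (i : ℕ) with h1 | h1
  · rw [hA.1 i l h1, zero_mul]
  · have : (j : ℕ) < (l : ℕ) := by
      rcases Nat.lt_or_ge (j : ℕ) (l : ℕ) with h2 | h2
      · exact h2
      · have h3 : (l : ℕ) = i ∨ (l : ℕ) = j := by omega
        rcases h3 with h3 | h3
        · exact absurd (Fin.ext h3) hl2
        · exact absurd (Fin.ext h3) hl1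
    rw [hB.1 l j this, mul_zero]

theorem h3_UT.det {A : Matrix (Fin n) (Fin n) F} (hA : h3_UT A) : A.det = 1 := by
  rw [Matrix.det_of_isUpperTriangular]
  · simp [hA.2]
  · intro i j h
    exact hA.1 i j h

theorem h3_UT.sub_one {A : Matrix (Fin n) (Fin n) F} (hA : h3_UT A) : UniTri.SUT (A - 1) := by
  intro i j h
  rw [Matrix.sub_apply]
  rcases Nat.lt_or_ge (j : ℕ) (i : ℕ) with h1 | h1
  · rw [hA.1 i j h1, Matrix.one_apply_ne (by intro e; subst e; omega), sub_zero]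
  · have : i = j := Fin.ext (by omega)
    subst this
    rw [hA.2, Matrix.one_apply_eq, sub_self]

theorem h3_UT.sd_sub_one {A : Matrix (Fin n) (Fin n) F} (hA : h3_UT A) (i j : Fin n)
    (hij : (j : ℕ) = (i : ℕ) + 1) : UniTri.sd (A - 1) (i : ℕ) = A i j := by
  rw [UniTri.sd_eq _ i j hij, Matrix.sub_apply, Matrix.one_apply_ne (by intro e; subst e; omega),
    sub_zero]

/-- **Regularity certificate.** An upper unitriangular matrix all of whose superdiagonal entries are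
nonzero has `IsNilpotent (A - 1)` and `(A - 1)^(n-1) ≠ 0`. -/
theorem h3_UT.regular {A : Matrix (Fin n) (Fin n) F} (hA : h3_UT A) (hn : 0 < n)
    (hsd : ∀ i j : Fin n, (j : ℕ) = (i : ℕ) + 1 → A i j ≠ 0) :
    IsNilpotent (A - 1) ∧ (A - 1) ^ (n - 1) ≠ 0 := by
  refine ⟨UniTri.isNilpotent _ hA.sub_one, UniTri.pow_pred_ne_zero _ hA.sub_one hn ?_⟩
  intro t ht
  rw [show t = ((⟨t, by omega⟩ : Fin n) : ℕ) from rfl,
    hA.sd_sub_one ⟨t, by omega⟩ ⟨t + 1, ht⟩ rfl]
  exact hsd _ _ rfl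


/-! ### Matrices lying in `SUJ` -/

/-- the matrix `A` is (the matrix of) an element of `SUJ n F q`. -/
def h3_InJ (q : ℕ) (A : Matrix (Fin n) (Fin n) F) : Prop :=
  ∃ M ∈ SUT.SUJ n F q, (M : Matrix (Fin n) (Fin n) F) = A

theorem h3_InJ.mul {q : ℕ} {A B : Matrix (Fin n) (Fin n) F} (hA : h3_InJ q A) (hB : h3_InJ q B) :
    h3_InJ q (A * B) := by
  obtain ⟨M, hM, rfl⟩ := hA
  obtain ⟨N, hN, rfl⟩ := hB
  exact ⟨M * N, mul_mem hM hN, rfl⟩

theorem h3_InJ_one {q : ℕ} : h3_InJ q (1 : Matrix (Fin n) (Fin n) F) :=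
  ⟨1, one_mem _, rfl⟩

/-! ### Root elements -/

/-- long-type root element `1 + t E_{ij} - t^q E_{j' i'}`. -/
def h3_X (q : ℕ) (i j : Fin n) (t : F) : Matrix (Fin n) (Fin n) F :=
  1 + t • Matrix.single i j (1 : F) - (t ^ q) • Matrix.single (Fin.rev j) (Fin.rev i) (1 : F)

theorem h3_X_mulVec (q : ℕ) (i j : Fin n) (t : F) (x : Fin n → F) :
    h3_X q i j t *ᵥ x = x + (t * x j) • Pi.single i (1 : F)
      - (t ^ q * x (Fin.rev i)) • Pi.single (Fin.rev j) (1 : F) := by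
  unfold h3_X
  rw [sub_mulVec, add_mulVec, one_mulVec, smul_mulVec, smul_mulVec, single_mulVec_eq,
    single_mulVec_eq, smul_smul, smul_smul, one_mul, one_mul]

theorem h3_single_apply (i j a b : Fin n) :
    Matrix.single i j (1 : F) a b = if a = i ∧ b = j then 1 else 0 := by
  rw [Matrix.single_apply]
  by_cases h : a = i ∧ b = j
  · rw [if_pos h, if_pos ⟨h.1.symm, h.2.symm⟩]
  · rw [if_neg h, if_neg (fun h' => h ⟨h'.1.symm, h'.2.symm⟩)]

theorem h3_X_apply (q : ℕ) (i j : Fin n) (t : F) (a b : Fin n) :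
    h3_X q i j t a b = (if a = b then 1 else 0) + (if a = i ∧ b = j then t else 0)
      - (if a = Fin.rev j ∧ b = Fin.rev i then t ^ q else 0) := by
  unfold h3_X
  simp only [Matrix.sub_apply, Matrix.add_apply, Matrix.smul_apply, Matrix.one_apply,
    h3_single_apply, smul_eq_mul, mul_ite, mul_one, mul_zero]

theorem h3_rev_lt {i j : Fin n} (h : (i : ℕ) < (j : ℕ)) : ((Fin.rev j : Fin n) : ℕ) < (Fin.rev i : ℕ) := by
  rw [Fin.val_rev, Fin.val_rev]
  have := j.2
  omega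

theorem h3_X_UT (q : ℕ) {i j : Fin n} (hlt : (i : ℕ) < (j : ℕ)) (t : F) : h3_UT (h3_X q i j t) := by
  have hlt' := h3_rev_lt hlt
  refine ⟨fun a b hab => ?_, fun a => ?_⟩
  · rw [h3_X_apply, if_neg (by intro e; subst e; omega),
      if_neg (by rintro ⟨rfl, rfl⟩; omega), if_neg (by rintro ⟨rfl, rfl⟩; omega)]
    ring
  · rw [h3_X_apply, if_pos rfl, if_neg (by rintro ⟨rfl, h⟩; rw [← h] at hlt; omega),
      if_neg (by rintro ⟨rfl, h⟩; rw [← h] at hlt'; omega)]
    ring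

section rootmem

variable [Fintype F] {q : ℕ}

theorem h3_X_inJ (hF : Fintype.card F = q ^ 2) {i j : Fin n} (hlt : (i : ℕ) < (j : ℕ))
    (hi : i ≠ Fin.rev i) (hj : j ≠ Fin.rev j) (t : F) : h3_InJ q (h3_X q i j t) := by
  have hq0 : q ≠ 0 := by have := one_le_q hF; omega
  have hij : i ≠ j := by intro e; subst e; omega
  refine ⟨⟨h3_X q i j t, (h3_X_UT q hlt t).det⟩, ?_, rfl⟩
  apply h3_mem_of_mulVec hF _ (Pi.single (Fin.rev j) 1) (t • Pi.single i 1) 0
  · rw [h3_hJ_single_single hF, if_neg]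
    intro h; rw [Fin.rev_rev] at h; exact hj h.symm
  · rw [h3_hJ_smul_left, h3_hJ_single_single hF, if_neg, mul_zero]
    intro h; exact hij (Fin.rev_injective h).symm
  · rw [h3_hJ_smul_left, h3_hJ_smul_right, h3_hJ_single_single hF, if_neg hi, zero_pow hq0]
    ring
  · intro x
    show h3_X q i j t *ᵥ x = _
    rw [h3_X_mulVec, h3_hJ_single_right hF, h3_hJ_smul_right, h3_hJ_single_right hF, Fin.rev_rev,
      zero_mul, zero_smul, add_zero, smul_smul, mul_comm (x j) t]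

end rootmem

/-- short root element `1 + a E_{ik} - a^q E_{k i'} + b E_{i i'}` (`k` the middle index). -/
def h3_Q (q : ℕ) (i k : Fin n) (a b : F) : Matrix (Fin n) (Fin n) F :=
  1 + a • Matrix.single i k (1 : F) - (a ^ q) • Matrix.single k (Fin.rev i) (1 : F)
    + b • Matrix.single i (Fin.rev i) (1 : F)

theorem h3_Q_mulVec (q : ℕ) (i k : Fin n) (a b : F) (x : Fin n → F) :
    h3_Q q i k a b *ᵥ x = x + (a * x k) • Pi.single i (1 : F)
      - (a ^ q * x (Fin.rev i)) • Pi.single k (1 : F) + (b * x (Fin.rev i)) • Pi.single i (1 : F) := by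
  unfold h3_Q
  rw [add_mulVec, sub_mulVec, add_mulVec, one_mulVec, smul_mulVec, smul_mulVec, smul_mulVec,
    single_mulVec_eq, single_mulVec_eq, single_mulVec_eq]
  simp only [smul_smul, one_mul]

theorem h3_Q_apply (q : ℕ) (i k : Fin n) (a b : F) (r c : Fin n) :
    h3_Q q i k a b r c = (if r = c then 1 else 0) + (if r = i ∧ c = k then a else 0)
      - (if r = k ∧ c = Fin.rev i then a ^ q else 0)
      + (if r = i ∧ c = Fin.rev i then b else 0) := by
  unfold h3_Q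
  simp only [Matrix.sub_apply, Matrix.add_apply, Matrix.smul_apply, Matrix.one_apply,
    h3_single_apply, smul_eq_mul, mul_ite, mul_one, mul_zero]

theorem h3_Q_UT (q : ℕ) {i k : Fin n} (hik : (i : ℕ) < (k : ℕ)) (hk : Fin.rev k = k) (a b : F) :
    h3_UT (h3_Q q i k a b) := by
  have hki : (k : ℕ) < (Fin.rev i : ℕ) := by
    have := h3_rev_lt hik
    rwa [hk] at this
  refine ⟨fun r c hrc => ?_, fun r => ?_⟩
  · rw [h3_Q_apply, if_neg (by intro e; subst e; omega),
      if_neg (by rintro ⟨rfl, rfl⟩; omega), if_neg (by rintro ⟨rfl, rfl⟩; omega),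
      if_neg (by rintro ⟨rfl, rfl⟩; omega)]
    ring
  · rw [h3_Q_apply, if_pos rfl, if_neg (by rintro ⟨rfl, h⟩; rw [← h] at hik; omega),
      if_neg (by rintro ⟨rfl, h⟩; rw [← h] at hki; omega),
      if_neg (by rintro ⟨rfl, h⟩; rw [← h] at hki; omega)]
    ring

section shortmem

variable [Fintype F] {q : ℕ}

theorem h3_Q_inJ (hF : Fintype.card F = q ^ 2) {i k : Fin n} (hik : (i : ℕ) < (k : ℕ))
    (hk : Fin.rev k = k) (a b : F) (hab : b + b ^ q + a * a ^ q = 0) :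
    h3_InJ q (h3_Q q i k a b) := by
  have hq0 : q ≠ 0 := by have := one_le_q hF; omega
  have hki : (k : ℕ) < (Fin.rev i : ℕ) := by
    have := h3_rev_lt hik
    rwa [hk] at this
  have hi : i ≠ Fin.rev i := by intro e; rw [← e] at hki; omega
  have hik' : i ≠ k := by intro e; subst e; omega
  refine ⟨⟨h3_Q q i k a b, (h3_Q_UT q hik hk a b).det⟩, ?_, rfl⟩
  apply h3_mem_of_mulVec hF _ (Pi.single i 1) ((-(a ^ q)) • Pi.single k 1) b
  · rw [h3_hJ_single_single hF, if_neg hi]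
  · rw [h3_hJ_smul_left, h3_hJ_single_single hF, if_neg, mul_zero]
    rw [hk]; exact hik'
  · rw [h3_hJ_smul_left, h3_hJ_smul_right, h3_hJ_single_single hF, if_pos hk.symm,
      h3_neg_pow_q hF, pow_q_pow_q hF]
    linear_combination hab
  · intro x
    show h3_Q q i k a b *ᵥ x = _
    rw [h3_Q_mulVec, h3_hJ_single_right hF, h3_hJ_smul_right, h3_hJ_single_right hF, hk,
      h3_neg_pow_q hF, pow_q_pow_q hF, smul_smul]
    module

end shortmem

/-! ### The regular unipotent element `u₁` for `n = 2m+1` -/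

/-- `X_{i,j}(t)` with natural-number indices (`1` out of range). -/
def h3_Xn (q m : ℕ) (i j : ℕ) (t : F) : Matrix (Fin (2 * m + 1)) (Fin (2 * m + 1)) F :=
  if h : i < 2 * m + 1 ∧ j < 2 * m + 1 then h3_X q ⟨i, h.1⟩ ⟨j, h.2⟩ t else 1

/-- the short simple root element `Q_{m-1}(a,b)` (`1` if `m = 0`). -/
def h3_Qn (q m : ℕ) (a b : F) : Matrix (Fin (2 * m + 1)) (Fin (2 * m + 1)) F :=
  if h : 1 ≤ m then h3_Q q ⟨m - 1, by omega⟩ ⟨m, by omega⟩ a b else 1

/-- `R k = X_{m-1-k,m-k}(1) ⋯ X_{m-2,m-1}(1) · Q_{m-1}(a,b)`. -/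
def h3_R (q m : ℕ) (a b : F) : ℕ → Matrix (Fin (2 * m + 1)) (Fin (2 * m + 1)) F
  | 0 => h3_Qn q m a b
  | k + 1 => h3_Xn q m (m - 2 - k) (m - 1 - k) 1 * h3_R q m a b k

/-- the regular unipotent element `u₁ = X_{0,1}(1) X_{1,2}(1) ⋯ X_{m-2,m-1}(1) Q_{m-1}(a,b)`. -/
def h3_u1 (q m : ℕ) (a b : F) : Matrix (Fin (2 * m + 1)) (Fin (2 * m + 1)) F := h3_R q m a b (m - 1)

theorem h3_R_zero (q m : ℕ) (a b : F) : h3_R q m a b 0 = h3_Qn q m a b := rfl

theorem h3_R_succ (q m : ℕ) (a b : F) (k : ℕ) :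
    h3_R q m a b (k + 1) = h3_Xn q m (m - 2 - k) (m - 1 - k) 1 * h3_R q m a b k := rfl

theorem h3_Xn_eq (q m : ℕ) {i j : ℕ} (hi : i < 2 * m + 1) (hj : j < 2 * m + 1) (t : F) :
    h3_Xn q m i j t = h3_X q ⟨i, hi⟩ ⟨j, hj⟩ t := by
  unfold h3_Xn
  rw [dif_pos ⟨hi, hj⟩]

theorem h3_Qn_eq (q m : ℕ) (hm : 1 ≤ m) (a b : F) :
    h3_Qn q m a b = h3_Q q ⟨m - 1, by omega⟩ ⟨m, by omega⟩ a b := by
  unfold h3_Qn
  rw [dif_pos hm]

theorem h3_rev_mid (m : ℕ) : Fin.rev (⟨m, by omega⟩ : Fin (2 * m + 1)) = ⟨m, by omega⟩ := by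
  apply Fin.ext
  rw [Fin.val_rev]
  simp only
  omega

theorem h3_Xn_UT (q m : ℕ) {i j : ℕ} (hij : i < j) (t : F) : h3_UT (h3_Xn q m i j t) := by
  unfold h3_Xn
  split_ifs with h
  · exact h3_X_UT q (by simpa using hij) t
  · exact h3_UT_one

theorem h3_Qn_UT (q m : ℕ) (a b : F) : h3_UT (h3_Qn q m a b) := by
  unfold h3_Qn
  split_ifs with h
  · exact h3_Q_UT q (by simp only; omega) (h3_rev_mid m) a b
  · exact h3_UT_one

theorem h3_R_UT (q m : ℕ) (a b : F) (k : ℕ) (hk : k + 1 ≤ m) : h3_UT (h3_R q m a b k) := by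
  induction k with
  | zero => exact h3_Qn_UT q m a b
  | succ k ih =>
    rw [h3_R_succ]
    exact (h3_Xn_UT q m (by omega) 1).mul (ih (by omega))

theorem h3_u1_UT (q m : ℕ) (hm : 1 ≤ m) (a b : F) : h3_UT (h3_u1 q m a b) :=
  h3_R_UT q m a b (m - 1) (by omega)

section u1mem

variable [Fintype F] {q : ℕ}

theorem h3_Xn_inJ (hF : Fintype.card F = q ^ 2) (m : ℕ) {i j : ℕ} (hij : i < j) (hjm : j < m)
    (t : F) : h3_InJ q (h3_Xn q m i j t) := by
  rw [h3_Xn_eq q m (by omega) (by omega)]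
  apply h3_X_inJ hF (by simpa using hij)
  · intro e
    have := congrArg Fin.val e
    rw [Fin.val_rev] at this
    simp only at this
    omega
  · intro e
    have := congrArg Fin.val e
    rw [Fin.val_rev] at this
    simp only at this
    omega

theorem h3_Qn_inJ (hF : Fintype.card F = q ^ 2) (m : ℕ) (a b : F)
    (hab : b + b ^ q + a * a ^ q = 0) : h3_InJ q (h3_Qn q m a b) := by
  unfold h3_Qn
  split_ifs with h
  · exact h3_Q_inJ hF (by simp only; omega) (h3_rev_mid m) a b hab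
  · exact h3_InJ_one

theorem h3_R_inJ (hF : Fintype.card F = q ^ 2) (m : ℕ) (a b : F)
    (hab : b + b ^ q + a * a ^ q = 0) (k : ℕ) (hk : k + 1 ≤ m) : h3_InJ q (h3_R q m a b k) := by
  induction k with
  | zero => exact h3_Qn_inJ hF m a b hab
  | succ k ih =>
    rw [h3_R_succ]
    exact (h3_Xn_inJ hF m (by omega) (by omega) 1).mul (ih (by omega))

theorem h3_u1_inJ (hF : Fintype.card F = q ^ 2) (m : ℕ) (hm : 1 ≤ m) (a b : F)
    (hab : b + b ^ q + a * a ^ q = 0) : h3_InJ q (h3_u1 q m a b) :=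
  h3_R_inJ hF m a b hab (m - 1) (by omega)

end u1mem

/-! ### The superdiagonal of `u₁` -/

/-- superdiagonal entries of `X_{i,i+1}(1)`. -/
theorem h3_Xn_super (q m : ℕ) {i : ℕ} (him : i + 1 < m) (r c : Fin (2 * m + 1))
    (hrc : (c : ℕ) = (r : ℕ) + 1) :
    h3_Xn q m i (i + 1) (1 : F) r c =
      if (r : ℕ) = i then 1 else if (r : ℕ) = 2 * m - i - 1 then -1 else 0 := by
  rw [h3_Xn_eq q m (by omega) (by omega), h3_X_apply, if_neg (by intro e; subst e; omega), zero_add,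
    one_pow]
  by_cases h1 : (r : ℕ) = i
  · rw [if_pos h1, if_pos ⟨Fin.ext h1, Fin.ext (by simp only; omega)⟩, if_neg, sub_zero]
    rintro ⟨e, -⟩
    have := congrArg Fin.val e
    rw [Fin.val_rev] at this
    simp only at this
    omega
  · rw [if_neg h1, if_neg (fun h => h1 (congrArg Fin.val h.1))]
    by_cases h2 : (r : ℕ) = 2 * m - i - 1
    · rw [if_pos h2, if_pos, zero_sub]
      refine ⟨Fin.ext ?_, Fin.ext ?_⟩
      · rw [Fin.val_rev]; simp only; omega
      · rw [Fin.val_rev]; simp only; omega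
    · rw [if_neg h2, if_neg, sub_zero]
      rintro ⟨e, -⟩
      have := congrArg Fin.val e
      rw [Fin.val_rev] at this
      simp only at this
      omega

/-- superdiagonal entries of `Q_{m-1}(a,b)`. -/
theorem h3_Qn_super (q m : ℕ) (hm : 1 ≤ m) (a b : F) (r c : Fin (2 * m + 1))
    (hrc : (c : ℕ) = (r : ℕ) + 1) :
    h3_Qn q m a b r c =
      if (r : ℕ) = m - 1 then a else if (r : ℕ) = m then -(a ^ q) else 0 := by
  rw [h3_Qn_eq q m hm, h3_Q_apply]
  have hrevv : ((Fin.rev (⟨m - 1, by omega⟩ : Fin (2 * m + 1)) : Fin (2 * m + 1)) : ℕ) = m + 1 := by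
    rw [Fin.val_rev]; simp only; omega
  simp only [Fin.ext_iff, hrevv]
  split_ifs <;> first | omega | ring1

/-- the superdiagonal of `R k`: `1` on `[m-1-k, m-2]`, `a` at `m-1`, `-a^q` at `m`, `-1` on
`[m+1, m+k]`, `0` elsewhere. -/
theorem h3_R_super (q m : ℕ) (a b : F) (k : ℕ) (hk : k + 1 ≤ m) (r c : Fin (2 * m + 1))
    (hrc : (c : ℕ) = (r : ℕ) + 1) :
    h3_R q m a b k r c =
      if (r : ℕ) = m - 1 then a else if (r : ℕ) = m then -(a ^ q) else
      if m - 1 - k ≤ (r : ℕ) ∧ (r : ℕ) + 1 < m then 1 else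
      if m < (r : ℕ) ∧ (r : ℕ) ≤ m + k then -1 else 0 := by
  induction k with
  | zero =>
    rw [h3_R_zero, h3_Qn_super q m (by omega) a b r c hrc]
    by_cases h1 : (r : ℕ) = m - 1
    · rw [if_pos h1, if_pos h1]
    · rw [if_neg h1, if_neg h1]
      by_cases h2 : (r : ℕ) = m
      · rw [if_pos h2, if_pos h2]
      · rw [if_neg h2, if_neg h2, if_neg (by omega), if_neg (by omega)]
  | succ k ih =>
    have e : m - 1 - k = (m - 2 - k) + 1 := by omega
    rw [h3_R_succ, (h3_Xn_UT q m (by omega) 1).mul_super (h3_R_UT q m a b k (by omega)) r c hrc,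
      ih (by omega)]
    have hX := h3_Xn_super (F := F) q m (i := m - 2 - k) (by omega) r c hrc
    rw [← e] at hX
    rw [hX]
    have hr := r.2
    split_ifs <;> first | omega | ring1

/-- the superdiagonal of `u₁` is `(1,…,1,a,-a^q,-1,…,-1)`. -/
theorem h3_u1_super (q m : ℕ) (hm : 1 ≤ m) (a b : F) (r c : Fin (2 * m + 1))
    (hrc : (c : ℕ) = (r : ℕ) + 1) :
    h3_u1 q m a b r c =
      if (r : ℕ) + 1 < m then 1 else if (r : ℕ) = m - 1 then a else
      if (r : ℕ) = m then -(a ^ q) else -1 := by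
  unfold h3_u1
  rw [h3_R_super q m a b (m - 1) (by omega) r c hrc]
  have hc := c.2
  by_cases h0 : (r : ℕ) + 1 < m
  · rw [if_pos h0, if_neg (by omega), if_neg (by omega), if_pos (by omega)]
  · rw [if_neg h0]
    by_cases h1 : (r : ℕ) = m - 1
    · rw [if_pos h1, if_pos h1]
    · rw [if_neg h1, if_neg h1]
      by_cases h2 : (r : ℕ) = m
      · rw [if_pos h2, if_pos h2]
      · rw [if_neg h2, if_neg h2, if_neg (by omega), if_pos (by omega)]

/-- **`u₁` is regular unipotent** (`a ≠ 0`). -/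
theorem h3_u1_regular (q m : ℕ) (hm : 1 ≤ m) (a b : F) (ha : a ≠ 0) :
    IsNilpotent (h3_u1 q m a b - 1) ∧ (h3_u1 q m a b - 1) ^ (2 * m + 1 - 1) ≠ 0 := by
  apply (h3_u1_UT q m hm a b).regular (by omega)
  intro r c hrc
  rw [h3_u1_super q m hm a b r c hrc]
  split_ifs
  · exact one_ne_zero
  · exact ha
  · exact neg_ne_zero.2 (pow_ne_zero _ ha)
  · exact neg_ne_zero.2 one_ne_zero

end Cfsg.Agent.SUNG
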